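import Cfsg.Agent.H452.FprRee
import Cfsg.Agent.H452.RG.Count
import Cfsg.Agent.H452.RG.ReeDat
import Cfsg.Agent.S1073

/-!
# Data of the Ree groups for counting arguments

* `ReeI m S`; `reeI` : a Ree group satisfies `ReeI m`.
-/

set_option autoImplicit false
open Subgroup MulAction
open scoped commutatorElement

namespace Cfsg.Agent.H452.RG

open Cfsg.Agent.H409 Cfsg.Agent.H452.FprCyc Cfsg.Agent.H452.FprTorus Cfsg.Agent.H452.FprRank
open Cfsg.Agent.H452.FprRee Cfsg.Agent.LieRecognition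

/-- Data of a Ree group. -/
structure ReeI (m : ℕ) (S : Type*) [Group S] : Prop where
  idx : ∀ H : Subgroup S, H ≠ ⊤ → ((3 ^ (2 * m + 1)) ^ 2 - 3 ^ (2 * m + 1) + 1) * Nat.card H ≤ Nat.card S
  inv : ∀ (H : Subgroup S) (t : S), orderOf t = 2 →
    11 * Nat.card {s : S // s⁻¹ * t * s ∈ H} ≤ Nat.card S + 11 * (3 ^ (2 * m + 1) - 1) * Nat.card H
  three : ∀ H : Subgroup S, H ≠ ⊤ → ∀ z : S, orderOf z = 3 →
    3 * Nat.card {s : S // s⁻¹ * z * s ∈ H} ≤ 2 * Nat.card S + (3 ^ (2 * m + 1) - 1) * Nat.card H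
  cent : ∀ (p : ℕ) (x : S), p.Prime → 5 ≤ p → orderOf x = p →
    Nat.card {s : S // x * s = s * x} ≤ 2 * (3 ^ (2 * m + 1) + 3 ^ (m + 1) + 1)
  noComm : ∀ (p : ℕ) (x z : S), p.Prime → 5 ≤ p → orderOf x = p → orderOf z = 3 → z * x = x * z → False

theorem ReeI.congr {m : ℕ} {S S' : Type*} [Group S] [Group S'] (e : S ≃* S') (h : ReeI m S) : ReeI m S' := by
  have hc : Nat.card S' = Nat.card S := Nat.card_congr e.symm.toEquiv
  have hH : ∀ H : Subgroup S', H ≠ ⊤ → H.comap e.toMonoidHom ≠ ⊤ := by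
    intro H hH h1
    apply hH
    rw [eq_top_iff]
    intro s _
    have h2 : e.symm s ∈ H.comap e.toMonoidHom := by rw [h1]; trivial
    simpa using h2
  have hcH : ∀ H : Subgroup S', Nat.card ↥(H.comap e.toMonoidHom) = Nat.card H := fun H =>
    Nat.card_congr (Equiv.subtypeEquiv e.toEquiv fun a => Iff.rfl)
  have hord : ∀ t : S', orderOf (e.symm t) = orderOf t := fun t => orderOf_injective e.symm.toMonoidHom e.symm.injective t
  have hcent : ∀ x : S', Nat.card {s : S' // x * s = s * x} = Nat.card {s : S // e.symm x * s = s * e.symm x} := by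
    intro x
    refine Nat.card_congr (Equiv.subtypeEquiv e.symm.toEquiv fun a => ?_)
    change x * a = a * x ↔ e.symm x * e.symm a = e.symm a * e.symm x
    rw [← map_mul, ← map_mul, e.symm.injective.eq_iff]
  have hmove : ∀ (H : Subgroup S') (t : S'), Nat.card {s : S' // s⁻¹ * t * s ∈ H} =
        Nat.card {s : S // s⁻¹ * e.symm t * s ∈ H.comap e.toMonoidHom} := by
    intro H t
    refine Nat.card_congr (Equiv.subtypeEquiv e.symm.toEquiv fun a => ?_)
    change a⁻¹ * t * a ∈ H ↔ e ((e.symm a)⁻¹ * e.symm t * e.symm a) ∈ H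
    simp
  refine ⟨?_, ?_, ?_, ?_, ?_⟩
  · intro H hH'
    rw [hc, ← hcH]
    exact h.idx _ (hH H hH')
  · intro H t ht
    rw [hc, ← hcH, hmove]
    exact h.inv _ _ ((hord t).trans ht)
  · intro H hH' z hz
    rw [hc, ← hcH, hmove]
    exact h.three _ (hH H hH') _ ((hord z).trans hz)
  · intro p x hp hp5 hx
    rw [hcent]
    exact h.cent p _ hp hp5 ((hord x).trans hx)
  · intro p x z hp hp5 hx hz hzx
    apply h.noComm p (e.symm x) (e.symm z) hp hp5 ((hord x).trans hx) ((hord z).trans hz)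
    rw [← map_mul, ← map_mul, hzx]

/-- the bound by the centraliser -/
theorem card_move_le' {G : Type*} [Group G] [Finite G] (K : Subgroup G) (x : G) :
    Nat.card {s : G // s⁻¹ * x * s ∈ K} ≤ Nat.card {s : G // x * s = s * x} * Nat.card K := by
  have h1 := card_move_le (⊤ : Subgroup G) K inferInstance x
  have e1 : Nat.card {s : (⊤ : Subgroup G) // (s : G)⁻¹ * x * s ∈ K} = Nat.card {s : G // s⁻¹ * x * s ∈ K} :=
    Nat.card_congr (Equiv.subtypeEquiv Subgroup.topEquiv.toEquiv fun a => Iff.rfl)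
  have e2 : Nat.card {s : (⊤ : Subgroup G) // x * s = s * x} = Nat.card {s : G // x * s = s * x} :=
    Nat.card_congr (Equiv.subtypeEquiv Subgroup.topEquiv.toEquiv fun a => Iff.rfl)
  rw [e1, e2, top_inf_eq] at h1
  exact h1

section Model

variable {K : Type*} [Field K] [Fintype K] {m : ℕ}

/-- an element of prime order at least `11` of the multiplicative group -/
theorem exists_unit (hm : 1 ≤ m) (hK : Fintype.card K = 3 ^ (2 * m + 1)) :
    ∃ (p : ℕ) (a : Kˣ), p.Prime ∧ 11 ≤ p ∧ orderOf a = p := by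
  classical
  have h8 := ReeAbs.three_pow_odd_mod m
  obtain ⟨q, hq⟩ : ∃ q, q = 3 ^ (2 * m + 1) := ⟨_, rfl⟩
  rw [← hq] at h8 hK
  have hq27 : 27 ≤ q := by
    rw [hq]
    calc 27 = 3 ^ 3 := by norm_num
      _ ≤ 3 ^ (2 * m + 1) := Nat.pow_le_pow_right (by norm_num) (by omega)
  obtain ⟨p, hp, hpq⟩ := Nat.exists_prime_and_dvd (n := (q - 1) / 2) (by omega)
  have hpq1 : p ∣ q - 1 := hpq.trans (Nat.div_dvd_of_dvd (by omega))
  have hf : Fact p.Prime := ⟨hp⟩
  obtain ⟨a, ha⟩ := exists_prime_orderOf_dvd_card' (G := Kˣ) p (by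
    rw [Nat.card_units, Nat.card_eq_fintype_card, hK]; exact hpq1)
  refine ⟨p, a, hp, ?_, ha⟩
  have h2 : p ≠ 2 := by
    rintro rfl
    omega
  have h3 : p ≠ 3 := by
    rintro rfl
    have : 3 ∣ q := hq ▸ dvd_pow_self 3 (by omega)
    omega
  have h5 : p ≠ 5 := by
    rintro rfl
    have h6 : ∀ k : ℕ, 3 ^ (2 * k + 1) % 5 = 3 ∨ 3 ^ (2 * k + 1) % 5 = 2 := by
      intro k
      induction k with
      | zero => left; rfl
      | succ k ih =>
        rw [show 2 * (k + 1) + 1 = (2 * k + 1) + 2 by ring, pow_add, Nat.mul_mod]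
        rcases ih with h | h <;> rw [h] <;> norm_num
    have h7 := h6 m
    rw [← hq] at h7
    omega
  have h7 : p ≠ 7 := by
    rintro rfl
    have h6 : ∀ k : ℕ, 3 ^ (2 * k + 1) % 7 = 3 ∨ 3 ^ (2 * k + 1) % 7 = 6 ∨ 3 ^ (2 * k + 1) % 7 = 5 := by
      intro k
      induction k with
      | zero => left; rfl
      | succ k ih =>
        rw [show 2 * (k + 1) + 1 = (2 * k + 1) + 2 by ring, pow_add, Nat.mul_mod]
        rcases ih with h | h | h <;> rw [h] <;> norm_num
    have h7 := h6 m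
    rw [← hq] at h7
    omega
  by_contra hlt
  push Not at hlt
  have := hp.two_le
  interval_cases p <;> first | omega | (norm_num at hp)

/-- centralisers of torus elements -/
theorem card_cent_h {G : Type*} [Group G] [Finite G] {U : K → K → K → G} {h : Kˣ → G} {n : G}
    (D : ReeAbs.Data m U h n) (hK : Fintype.card K = 3 ^ (2 * m + 1)) {a : Kˣ} (ha : a ^ 2 ≠ 1) :
    Nat.card {s : G // h a * s = s * h a} = 3 ^ (2 * m + 1) - 1 := by
  rw [← hK, ← ReeSplit.card_hSub D, ← ReeSplit.centralizer_h D hK ha]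
  refine Nat.card_congr (Equiv.subtypeEquivRight fun s => ?_)
  rw [Subgroup.mem_centralizer_singleton_iff]
  exact eq_comm

theorem reeI_model (hm : 1 ≤ m) (hK : Fintype.card K = 3 ^ (2 * m + 1))
    [IsSimpleGroup ↥(Cfsg.Lie.twistedG2 K (3 ^ m))] : ReeI m ↥(Cfsg.Lie.twistedG2 K (3 ^ m)) := by
  classical
  have hch := ReeAbs.charP_three hK
  have hf3 : Fact (Nat.Prime 3) := ⟨Nat.prime_three⟩
  obtain ⟨U, h, n, D⟩ := Cfsg.Agent.ChevalleyStructure.Ree.Data.exists_data (K := K) hK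
  have hfin : Finite ↥(Cfsg.Lie.twistedG2 K (3 ^ m)) := ReeSylowThree.finite D
  have Dl := ReeSetup.local_of_data D hK
  have ar := ReeClass.arith m
  obtain ⟨p, a, hp, hp11, ha⟩ := exists_unit hm hK
  have h158 := Cfsg.Agent.S1158.result hm hK
  have hcard := Cfsg.Agent.S1069.result (m := m) hK
  obtain ⟨q, hq⟩ : ∃ q, q = 3 ^ (2 * m + 1) := ⟨_, rfl⟩
  obtain ⟨r, hr⟩ : ∃ r, r = 3 ^ (m + 1) := ⟨_, rfl⟩
  rw [← hq] at hcard
  have hrq : r * r = 3 * q := by
    rw [hr, hq, ← pow_add, ← pow_succ']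
    congr 1
    omega
  have hr3 : 3 * r ≤ q := by
    rw [hr, hq, ← pow_succ']
    exact Nat.pow_le_pow_right (by norm_num) (by omega)
  have hq27 : 27 ≤ q := by
    rw [hq]
    calc 27 = 3 ^ 3 := by norm_num
      _ ≤ 3 ^ (2 * m + 1) := Nat.pow_le_pow_right (by norm_num) (by omega)
  have h3q : 3 ∣ q := hq ▸ dvd_pow_self 3 (by omega)
  have hq4 : q % 4 = 3 := by
    rw [hq, pow_add, pow_mul, Nat.mul_mod, Nat.pow_mod]
    norm_num
  have hnc : ∃ x y : ↥(Cfsg.Lie.twistedG2 K (3 ^ m)), x * y ≠ y * x := by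
    by_contra hcon
    push Not at hcon
    exact (Cfsg.Agent.S1073.result hm hK).2 ⟨⟨hcon⟩⟩
  have hG : commutator ↥(Cfsg.Lie.twistedG2 K (3 ^ m)) = ⊤ := by
    rcases IsSimpleGroup.eq_bot_or_eq_top_of_normal (commutator ↥(Cfsg.Lie.twistedG2 K (3 ^ m))) inferInstance with h0 | h0
    · exfalso
      obtain ⟨x, y, hxy⟩ := hnc
      apply hxy
      have h1 : ⁅x, y⁆ ∈ commutator ↥(Cfsg.Lie.twistedG2 K (3 ^ m)) :=
        Subgroup.commutator_mem_commutator (Subgroup.mem_top x) (Subgroup.mem_top y)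
      rw [h0, Subgroup.mem_bot] at h1
      exact commutatorElement_eq_one_iff_mul_comm.1 h1
    · exact h0
  have ha2 : a ^ 2 ≠ 1 := by
    intro h1
    have h2 := Nat.le_of_dvd (by norm_num) (orderOf_dvd_of_pow_eq_one h1)
    omega
  have haa2 : (a * a) ^ 2 ≠ 1 := by
    intro h1
    have h3 : a ^ 4 = 1 := by
      rw [← h1]
      rw [mul_pow, ← pow_add]
    have h2 := Nat.le_of_dvd (by norm_num) (orderOf_dvd_of_pow_eq_one h3)
    omega
  have hFS : ∀ (H : Subgroup ↥(Cfsg.Lie.twistedG2 K (3 ^ m))) (b : Kˣ), b ^ 2 ≠ 1 →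
      (FS (MonoidHom.id _) H (h b)).ncard ≤ (3 ^ (2 * m + 1) - 1) * Nat.card H := by
    intro H b hb
    have h1 := card_move_le' H (h b)
    rw [card_cent_h D hK hb] at h1
    exact h1
  refine ⟨?_, ?_, ?_, ?_, ?_⟩
  · intro H hH
    obtain ⟨k, ρ, hρ, hk2, hk⟩ := FprDeg.exists_irr hnc hH
    have h1 := Cfsg.Agent.S2343.result m hm hK k ρ hρ hk2
    rw [← H.index_mul_card]
    exact Nat.mul_le_mul_right _ (h1.trans hk)
  · intro H t ht
    have h1 := ReeD.ratio_inv D hK hG (H := H) hp (by omega) ha ht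
    have h2 := hFS H a ha2
    have h3 : Nat.card {s : ↥(Cfsg.Lie.twistedG2 K (3 ^ m)) // s⁻¹ * t * s ∈ H} = (FS (MonoidHom.id _) H t).ncard := rfl
    rw [h3]
    generalize (FS (MonoidHom.id _) H t).ncard = x at *
    generalize (FS (MonoidHom.id _) H (h a)).ncard = y at *
    generalize Nat.card H = c at *
    generalize Nat.card ↥(Cfsg.Lie.twistedG2 K (3 ^ m)) = M at *
    have h4 : 11 * x ≤ M + 11 * y := by
      rcases le_total x y with hxy | hxy
      · omega
      · obtain ⟨d, rfl⟩ := Nat.exists_eq_add_of_le hxy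
        have h5 : p * d ≤ M := by
          rw [mul_add] at h1
          omega
        have h6 : 11 * d ≤ p * d := Nat.mul_le_mul_right _ hp11
        omega
    calc 11 * x ≤ M + 11 * y := h4
      _ ≤ M + 11 * ((3 ^ (2 * m + 1) - 1) * c) := Nat.add_le_add_left (Nat.mul_le_mul_left _ h2) _
      _ = _ := by ring
  · intro H hH z hz
    have h1 := ReeD.ratio_three D hK hH a hz
    have h2 := hFS H (a * a) haa2
    have h3 : Nat.card {s : ↥(Cfsg.Lie.twistedG2 K (3 ^ m)) // s⁻¹ * z * s ∈ H} = (FS (MonoidHom.id _) H z).ncard := rfl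
    rw [h3]
    exact h1.trans (Nat.add_le_add_left h2 _)
  · intro l x hl hl5 hx
    have hlf : Fact l.Prime := ⟨hl⟩
    have hl2 : l ≠ 2 := by omega
    have hl3 : l ≠ 3 := by omega
    have hc : ∀ P : Sylow l ↥(Cfsg.Lie.twistedG2 K (3 ^ m)), IsCyclic P :=
      fun P => Cfsg.Agent.S1156.result hm hK (by omega) P
    -- `3` does not divide the order of the centraliser
    have hC3 : ¬ 3 ∣ Nat.card (Subgroup.centralizer {x}) := by
      intro h3
      obtain ⟨⟨y, hy⟩, hyo⟩ := exists_prime_orderOf_dvd_card' (G := Subgroup.centralizer {x}) 3 h3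
      rw [Subgroup.orderOf_mk] at hyo
      refine ReeClass.no3 Dl ar y hyo x ?_ ?_ ?_ ?_
      · rw [hx]; exact hl.odd_of_ne_two hl2
      · rw [hx]
        intro h4
        exact hl3 ((Nat.prime_dvd_prime_iff_eq Nat.prime_three hl).1 h4).symm
      · rintro rfl
        rw [orderOf_one] at hx
        exact hl.one_lt.ne hx
      · exact Subgroup.mem_centralizer_singleton_iff.1 hy
    have hCN : Nat.card (Subgroup.centralizer {x}) ∣
        Nat.card (normalizer ((zpowers x : Subgroup ↥(Cfsg.Lie.twistedG2 K (3 ^ m))) :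
          Set ↥(Cfsg.Lie.twistedG2 K (3 ^ m)))) := by
      apply Subgroup.card_dvd_of_le
      intro g hg
      apply centralizer_le_normalizer
      rw [mem_centralizer_iff]
      rintro _ ⟨i, rfl⟩
      have h4 : Commute x g := (Subgroup.mem_centralizer_singleton_iff.1 hg).symm
      exact (h4.zpow_left i).eq
    have hcc : Nat.card {s : ↥(Cfsg.Lie.twistedG2 K (3 ^ m)) // x * s = s * x} = Nat.card (Subgroup.centralizer {x}) := by
      refine Nat.card_congr (Equiv.subtypeEquivRight fun s => ?_)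
      rw [Subgroup.mem_centralizer_singleton_iff]
      exact eq_comm
    rw [hcc, ← hq, ← hr]
    have key : ∀ a N : ℕ, (a, N) ∈ ({((3 ^ (2 * m + 1) - 1) / 2, 2 * (3 ^ (2 * m + 1) - 1)),
          ((3 ^ (2 * m + 1) + 1) / 4, 6 * (3 ^ (2 * m + 1) + 1)),
          (3 ^ (2 * m + 1) - 3 ^ (m + 1) + 1, 6 * (3 ^ (2 * m + 1) - 3 ^ (m + 1) + 1)),
          (3 ^ (2 * m + 1) + 3 ^ (m + 1) + 1, 6 * (3 ^ (2 * m + 1) + 3 ^ (m + 1) + 1))} : Set (ℕ × ℕ)) →
        l ∣ a → Nat.card (Subgroup.centralizer {x}) ∣ N := by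
      intro a N haN hpa
      obtain ⟨A, -, hA, hN, hall⟩ := h158 _ haN
      simp only at hA hN
      rw [← hA] at hpa
      obtain ⟨y, hy⟩ := exists_prime_orderOf_dvd_card' (G := A) l hpa
      have hyo : orderOf (y : ↥(Cfsg.Lie.twistedG2 K (3 ^ m))) = l := by rw [Subgroup.orderOf_coe, hy]
      rw [← hN, ← hall (zpowers (y : ↥(Cfsg.Lie.twistedG2 K (3 ^ m)))) (by rw [zpowers_le]; exact y.2) ?_,
        card_normalizer_eq hc hyo hx]
      · exact hCN
      · rw [Ne, zpowers_eq_bot]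
        intro h1
        rw [h1, orderOf_one] at hyo
        exact hl.one_lt.ne hyo
    rw [← hq, ← hr] at key
    have hfin2 : ∀ k : ℕ, Nat.card (Subgroup.centralizer {x}) ∣ 6 * k → 0 < k → k ≤ q + r + 1 →
        Nat.card (Subgroup.centralizer {x}) ≤ 2 * (q + r + 1) := by
      intro k hk hk0 hkle
      have h1 : Nat.card (Subgroup.centralizer {x}) ∣ 3 * (2 * k) := by
        rw [← mul_assoc]; exact hk
      have h2 : Nat.Coprime (Nat.card (Subgroup.centralizer {x})) 3 := by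
        rw [Nat.coprime_comm]
        exact (Nat.Prime.coprime_iff_not_dvd Nat.prime_three).2 hC3
      have h3 := h2.dvd_of_dvd_mul_left h1
      have h4 := Nat.le_of_dvd (by omega) h3
      omega
    -- the prime divisors
    have hcube : q ^ 3 + 1 = (q + 1) * ((q - r + 1) * (q + r + 1)) := by
      have h1 : r ≤ q := by omega
      zify [h1]
      have h2 : (r : ℤ) * r = 3 * q := by exact_mod_cast hrq
      linear_combination ((q : ℤ) + 1) * h2
    have hlT : l ∣ Nat.card ↥(Cfsg.Lie.twistedG2 K (3 ^ m)) := hx ▸ orderOf_dvd_natCard x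
    rw [hcard] at hlT
    have hlq : ¬ l ∣ q := by
      intro h1
      rw [hq] at h1
      exact hl3 ((Nat.prime_dvd_prime_iff_eq hl Nat.prime_three).1 (hl.dvd_of_dvd_pow h1))
    have hlodd : ∀ a b c : ℕ, l ∣ c → c = a * b → (a = 2 ∨ a = 4) → l ∣ b := by
      intro a b c hc' hab ha
      rw [hab] at hc'
      rcases (hl.dvd_mul).1 hc' with h1 | h1
      · exfalso
        apply hl2
        rcases ha with rfl | rfl
        · exact (Nat.prime_dvd_prime_iff_eq hl Nat.prime_two).1 h1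
        · have h2 : l ∣ 2 ^ 2 := by norm_num; exact h1
          exact (Nat.prime_dvd_prime_iff_eq hl Nat.prime_two).1 (hl.dvd_of_dvd_pow h2)
      · exact h1
    rcases (hl.dvd_mul).1 hlT with h1 | h1
    · rcases (hl.dvd_mul).1 h1 with h2 | h2
      · exact absurd (hl.dvd_of_dvd_pow h2) hlq
      · have h3 : l ∣ (q - 1) / 2 := hlodd 2 _ _ h2 (by omega) (Or.inl rfl)
        have h4 := Nat.le_of_dvd (by omega) (key ((q - 1) / 2) (2 * (q - 1)) (by simp) h3)
        omega
    · rw [hcube] at h1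
      rcases (hl.dvd_mul).1 h1 with h2 | h2
      · exact hfin2 (q + 1) (key _ _ (by simp : ((q + 1) / 4, 6 * (q + 1)) ∈ _)
          (hlodd 4 _ _ h2 (by omega) (Or.inr rfl))) (by omega) (by omega)
      rcases (hl.dvd_mul).1 h2 with h3 | h3
      · exact hfin2 (q - r + 1) (key _ _ (by simp : ((q - r + 1), 6 * (q - r + 1)) ∈ _) h3) (by omega) (by omega)
      · exact hfin2 (q + r + 1) (key _ _ (by simp : ((q + r + 1), 6 * (q + r + 1)) ∈ _) h3) (by omega) le_rfl
  · intro l x z hl hl5 hx hz hzx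
    refine ReeClass.no3 Dl ar z hz x ?_ ?_ ?_ hzx
    · rw [hx]; exact hl.odd_of_ne_two (by omega)
    · rw [hx]
      intro h4
      have := (Nat.prime_dvd_prime_iff_eq Nat.prime_three hl).1 h4
      omega
    · rintro rfl
      rw [orderOf_one] at hx
      exact hl.one_lt.ne hx

end Model

/-- **The data of the Ree groups.** -/
theorem reeI {S : Type*} [Group S] [IsSimpleGroup S] {K : Type*} [Field K] [Fintype K] {m : ℕ}
    (hm : 1 ≤ m) (hK : Fintype.card K = 3 ^ (2 * m + 1)) (e : S ≃* ↥(Cfsg.Lie.twistedG2 K (3 ^ m))) : ReeI m S := by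
  have hs : IsSimpleGroup ↥(Cfsg.Lie.twistedG2 K (3 ^ m)) := by
    have : Nontrivial ↥(Cfsg.Lie.twistedG2 K (3 ^ m)) := e.symm.toEquiv.nontrivial
    exact IsSimpleGroup.isSimpleGroup_of_surjective e.toMonoidHom e.surjective
  exact ReeI.congr e.symm (reeI_model hm hK)

end Cfsg.Agent.H452.RG
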