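import Cfsg.Agent.H28.T5RankOne
import Cfsg.Agent.S1163

/-!
# Outer automorphisms of prime order of the Suzuki groups

* `sz_outer` : an outer automorphism of prime order `p` of `Sz(2^(2m+1))` has `p` odd, `p ∣ 2m+1`, and at most
  `32^((2m+1)/p)` fixed points.
-/

set_option autoImplicit false

namespace Cfsg.Agent.H452.RG

open Cfsg.Agent.H28.T5RankOne Cfsg.Agent.H967.CopMat Cfsg.Agent.H975.FieldDef
open Cfsg.Agent.LieRecognition.SzMatrix Cfsg.Agent.H967.CopSz Cfsg.Agent.H967.CopFix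
open Cfsg.Agent.H270.StrP (sz_fixed)

/-- the order of `Sz(q)`, including `Sz(2)` -/
theorem card_sz_all {F : Type*} [Field F] [Fintype F] {m : ℕ} (hF : Fintype.card F = 2 ^ (2 * m + 1)) :
    Nat.card ↥(Cfsg.Lie.Sz F (2 ^ (m + 1))) =
      (2 ^ (2 * m + 1)) ^ 2 * (2 ^ (2 * m + 1) - 1) * ((2 ^ (2 * m + 1)) ^ 2 + 1) := by
  have H := good hF
  have D := Cfsg.Agent.S1163.data_sz H
  have hcF : Nat.card F = 2 ^ (2 * m + 1) := by rw [Nat.card_eq_fintype_card, hF]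
  have : Finite ↥(Cfsg.Lie.Sz F (2 ^ (m + 1))) := inferInstance
  have hcu : Nat.card H.unip = (2 ^ (2 * m + 1)) ^ 2 := by rw [H.card_unip, hcF]
  have hcb : Nat.card H.borel = (2 ^ (2 * m + 1)) ^ 2 * (2 ^ (2 * m + 1) - 1) := by
    rw [H.card_borel, hcF]
  have hidx : H.borel.index = (2 ^ (2 * m + 1)) ^ 2 + 1 := by rw [D.index, hcu]
  rw [← Subgroup.card_mul_index H.borel, hcb, hidx]

theorem card_sz_le {F : Type*} [Field F] [Fintype F] {m : ℕ} (hF : Fintype.card F = 2 ^ (2 * m + 1)) :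
    Nat.card ↥(Cfsg.Lie.Sz F (2 ^ (m + 1))) ≤ 32 ^ (2 * m + 1) := by
  rw [card_sz_all hF]
  have h1 : (32 : ℕ) ^ (2 * m + 1) = (2 ^ (2 * m + 1)) ^ 5 := by
    rw [← pow_mul, mul_comm (2 * m + 1) 5, pow_mul]
    norm_num
  rw [h1]
  obtain ⟨q, hq⟩ : ∃ q, q = 2 ^ (2 * m + 1) := ⟨_, rfl⟩
  rw [← hq]
  have hq1 : 1 ≤ q := by rw [hq]; exact Nat.one_le_two_pow
  obtain ⟨t, ht⟩ : ∃ t, q = t + 1 := ⟨q - 1, by omega⟩
  have h2 : (q - 1) * (q ^ 2 + 1) ≤ q ^ 3 := by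
    rw [ht, Nat.add_sub_cancel]
    nlinarith
  calc q ^ 2 * (q - 1) * (q ^ 2 + 1) = q ^ 2 * ((q - 1) * (q ^ 2 + 1)) := by ring
    _ ≤ q ^ 2 * q ^ 3 := Nat.mul_le_mul_left _ h2
    _ = q ^ 5 := by ring

theorem pow_odd_eq {M : Type*} [Monoid M] {a : M} (h : a ^ 2 = 1) (n : ℕ) : a ^ (2 * n + 1) = a := by
  rw [pow_succ, pow_mul, h, one_pow, one_mul]

/-- powers of `conj g * Φ σ` -/
theorem pow_form {Y R : Type*} [Group Y] [Group R] (Φ : R →* MulAut Y) (g : Y) (σ : R) (n : ℕ) :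
    ∃ h : Y, (MulAut.conj g * Φ σ) ^ n = MulAut.conj h * Φ (σ ^ n) := by
  induction n with
  | zero => exact ⟨1, by simp⟩
  | succ n ih =>
    obtain ⟨h, hh⟩ := ih
    refine ⟨h * Φ (σ ^ n) g, ?_⟩
    rw [pow_succ, hh]
    rw [map_mul, pow_succ, map_mul, ← mul_assoc]
    have h1 : Φ (σ ^ n) * MulAut.conj g = MulAut.conj (Φ (σ ^ n) g) * Φ (σ ^ n) := by
      ext y
      simp [MulAut.mul_apply, MulAut.conj_apply]
    calc MulAut.conj h * Φ (σ ^ n) * MulAut.conj g * Φ σ = MulAut.conj h * (Φ (σ ^ n) * MulAut.conj g) * Φ σ := by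
          rw [mul_assoc (MulAut.conj h)]
      _ = _ := by rw [h1, mul_assoc, mul_assoc, mul_assoc]

/-- Outer automorphisms of prime order: data. -/
def SzO (m : ℕ) (S : Type*) [Group S] : Prop :=
  ∀ (p : ℕ) (a : MulAut S), p.Prime → a ^ p = 1 → (¬ ∃ g, a = MulAut.conj g) →
    3 ≤ p ∧ p ∣ 2 * m + 1 ∧ Nat.card {s : S // a s = s} ≤ 32 ^ ((2 * m + 1) / p)

theorem szO_model {F : Type} [Field F] [Fintype F] {m : ℕ} (hm : 1 ≤ m) (hF : Fintype.card F = 2 ^ (2 * m + 1)) :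
    SzO m ↥(Cfsg.Lie.Sz F (2 ^ (m + 1))) := by
  classical
  intro p a hp hap hout
  have hpf : Fact p.Prime := ⟨hp⟩
  have hcyc : IsCyclic (F ≃+* F) := LieRecognition.FieldSemilinear.isCyclic_ringAut F
  have hfinR := finite_ringAut F
  have ha1 : a ≠ 1 := by
    rintro rfl
    exact hout ⟨1, by simp⟩
  have hao : orderOf a = p := orderOf_eq_prime hap ha1
  have hp2 : p ≠ 2 := by
    rintro rfl
    -- `a ^ (2m+1)` is inner
    obtain ⟨g, σ, h⟩ := Cfsg.Agent.H70.SzAutThm.exists_conj_field hm hF a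
    have h' : a = MulAut.conj g * fieldAut (stab_sz hF) σ := h
    obtain ⟨k, hk⟩ := pow_form (fieldAut (stab_sz hF)) g σ (2 * m + 1)
    apply hout
    have hσ : σ ^ (2 * m + 1) = 1 := by
      have h1 := card_Fx σ
      rw [Nat.card_eq_fintype_card, hF] at h1
      have h2 : Nat.card ↥(Fx σ) ∣ 2 ^ (2 * m + 1) := by
        rw [h1]
        exact dvd_pow_self _ (orderOf_pos σ).ne'
      obtain ⟨i, -, hi⟩ := (Nat.dvd_prime_pow Nat.prime_two).1 h2
      rw [hi, ← pow_mul] at h1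
      have h3 := Nat.pow_right_injective (le_refl 2) h1
      apply orderOf_dvd_iff_pow_eq_one.1
      exact ⟨i, h3.trans (mul_comm _ _)⟩
    refine ⟨k, ?_⟩
    rw [hσ, map_one, mul_one, ← h'] at hk
    exact (pow_odd_eq hap m).symm.trans hk
  obtain ⟨σ, hσ, g, hg⟩ := (sz_data hm hF hp2).form hao hout
  obtain ⟨m₀, j, h1, h2, h3, -⟩ := sz_exp hm hF hp2 hσ
  obtain ⟨f, hf, hfix⟩ := sz_fixed hF σ h1 h2
  have hfinE : Fintype ↥(Fx σ) := Fintype.ofFinite _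
  have hE' : Fintype.card ↥(Fx σ) = 2 ^ (2 * m₀ + 1) := by rw [← Nat.card_eq_fintype_card, h1]
  refine ⟨?_, ⟨2 * m₀ + 1, by rw [h3, mul_comm]⟩, ?_⟩
  · have := hp.two_le
    omega
  have h4 : (2 * m + 1) / p = 2 * m₀ + 1 := by
    rw [h3]
    exact Nat.mul_div_cancel _ hp.pos
  rw [h4]
  have h5 : Nat.card {s : ↥(Cfsg.Lie.Sz F (2 ^ (m + 1))) // a s = s} =
      Nat.card {s : ↥(Cfsg.Lie.Sz F (2 ^ (m + 1))) // fieldAut (stab_sz hF) σ s = s} := by
    refine Nat.card_congr (Equiv.subtypeEquiv (MulAut.conj g)⁻¹.toEquiv fun s => ?_)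
    change a s = s ↔ fieldAut (stab_sz hF) σ ((MulAut.conj g)⁻¹ s) = (MulAut.conj g)⁻¹ s
    rw [hg]
    change MulAut.conj g (fieldAut (stab_sz hF) σ ((MulAut.conj g)⁻¹ s)) = s ↔ _
    obtain ⟨y, hy⟩ : ∃ y, y = (MulAut.conj g)⁻¹ s := ⟨_, rfl⟩
    have hs : s = MulAut.conj g y := by rw [hy]; exact ((MulAut.conj g).apply_symm_apply s).symm
    rw [← hy]
    conv_lhs => rw [hs]
    exact (MulAut.conj g).injective.eq_iff
  rw [h5, Nat.card_congr (Equiv.subtypeEquivRight hfix)]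
  have h9 : Nat.card ↥f.range = Nat.card ↥(Cfsg.Lie.Sz ↥(Fx σ) (2 ^ (m₀ + 1))) :=
    (Nat.card_congr (MonoidHom.ofInjective hf).toEquiv).symm
  exact (le_of_eq h9).trans (card_sz_le hE')

theorem SzO.congr {m : ℕ} {S S' : Type*} [Group S] [Group S'] (e : S ≃* S') (h : SzO m S) : SzO m S' := by
  intro p a hp hap hout
  let b : MulAut S := (e.trans a).trans e.symm
  have hb : ∀ n : ℕ, ∀ s, (b ^ n) s = e.symm ((a ^ n) (e s)) := by
    intro n
    induction n with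
    | zero => intro s; simp
    | succ n ih =>
      intro s
      rw [pow_succ, MulAut.mul_apply, ih, pow_succ, MulAut.mul_apply]
      change e.symm ((a ^ n) (e (e.symm (a (e s))))) = _
      rw [e.apply_symm_apply]
  have hbp : b ^ p = 1 := by
    ext s
    rw [hb, hap]
    simp
  obtain ⟨h1, h2, h3⟩ := h p b hp hbp (by
    rintro ⟨g, hg⟩
    apply hout
    refine ⟨e g, ?_⟩
    ext s
    have h1 := congrArg (fun c : MulAut S => e (c (e.symm s))) hg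
    simp only [MulAut.conj_apply, map_mul, map_inv, e.apply_symm_apply] at h1
    have h2 : e (b (e.symm s)) = a s := by
      change e (e.symm (a (e (e.symm s)))) = a s
      simp
    rw [h2] at h1
    rw [h1, MulAut.conj_apply])
  refine ⟨h1, h2, le_trans (le_of_eq ?_) h3⟩
  refine Nat.card_congr (Equiv.subtypeEquiv e.symm.toEquiv fun s => ?_)
  change a s = s ↔ e.symm (a (e (e.symm s))) = e.symm s
  simp

theorem szO {S : Type*} [Group S] {F : Type} [Field F] [Fintype F] {m : ℕ}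
    (hm : 1 ≤ m) (hF : Fintype.card F = 2 ^ (2 * m + 1)) (e : S ≃* ↥(Cfsg.Lie.Sz F (2 ^ (m + 1)))) : SzO m S :=
  SzO.congr e.symm (szO_model hm hF)

end Cfsg.Agent.H452.RG
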