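import Cfsg.Agent.H28.T5RankOne
import Cfsg.Agent.H452.RG.ReeDat
import Cfsg.Agent.H452.RG.SzOuter

/-!
# Outer automorphisms of prime order of the Ree groups

* `ReeO m S`; `reeO` : a Ree group satisfies `ReeO m`.
-/

set_option autoImplicit false
open Subgroup MulAction
open scoped Pointwise

namespace Cfsg.Agent.H452.RG

open Cfsg.Agent.H28.T5RankOne Cfsg.Agent.H967.CopMat Cfsg.Agent.H975.FieldDef
open Cfsg.Lie Cfsg.Agent.ChevalleyStructure Cfsg.Agent.H967.CopSz Cfsg.Agent.H967.CopFix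
open Cfsg.Agent.H270.StrP (ree_fixed)
open Cfsg.Agent.LieRecognition

/-- Outer automorphisms of prime order: data. -/
def ReeO (m : ℕ) (S : Type*) [Group S] : Prop :=
  ∀ (p : ℕ) (a : MulAut S), p.Prime → a ^ p = 1 → (¬ ∃ g, a = MulAut.conj g) →
    (p = 3 ∧ ∃ (g : S) (l : ℕ), l.Prime ∧ 5 ≤ l ∧ l ∣ orderOf (g⁻¹ * a g)) ∨
    (5 ≤ p ∧ p ∣ 2 * m + 1 ∧ Nat.card {s : S // a s = s} ≤ 2187 ^ ((2 * m + 1) / p))

theorem card_ree_le {K : Type*} [Field K] [Fintype K] {m : ℕ} (hK : Fintype.card K = 3 ^ (2 * m + 1)) :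
    Nat.card ↥(twistedG2 K (3 ^ m)) ≤ 2187 ^ (2 * m + 1) := by
  rw [Cfsg.Agent.S1069.result hK]
  have h1 : (2187 : ℕ) ^ (2 * m + 1) = (3 ^ (2 * m + 1)) ^ 7 := by
    rw [← pow_mul, mul_comm (2 * m + 1) 7, pow_mul]
    norm_num
  rw [h1]
  obtain ⟨q, hq⟩ : ∃ q, q = 3 ^ (2 * m + 1) := ⟨_, rfl⟩
  rw [← hq]
  have hq1 : 3 ≤ q := by rw [hq]; exact Nat.le_self_pow (by omega) 3
  obtain ⟨t, ht⟩ : ∃ t, q = t + 1 := ⟨q - 1, by omega⟩
  have h2 : (q - 1) * (q ^ 3 + 1) ≤ q ^ 4 := by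
    have h3 : (q - 1) * (q ^ 3 + 1) + (q ^ 3 - q + 1) = q ^ 4 := by
      have h4 : q ≤ q ^ 3 := Nat.le_self_pow (by norm_num) q
      zify [h4, (by omega : 1 ≤ q)]
      ring
    omega
  calc q ^ 3 * (q - 1) * (q ^ 3 + 1) = q ^ 3 * ((q - 1) * (q ^ 3 + 1)) := by ring
    _ ≤ q ^ 3 * q ^ 4 := Nat.mul_le_mul_left _ h2
    _ = q ^ 7 := by ring

/-- odd prime divisors of the order of a unit -/
theorem exists_prime_unit {K : Type*} [Field K] [Fintype K] {m : ℕ} (hK : Fintype.card K = 3 ^ (2 * m + 1)) {e : Kˣ}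
    (he1 : e ≠ 1) (he2 : e ≠ -1) : ∃ l : ℕ, l.Prime ∧ 5 ≤ l ∧ l ∣ orderOf e := by
  have h8 := ReeAbs.three_pow_odd_mod m
  obtain ⟨q, hq⟩ : ∃ q, q = 3 ^ (2 * m + 1) := ⟨_, rfl⟩
  rw [← hq] at h8 hK
  have h3q : 3 ∣ q := hq ▸ dvd_pow_self 3 (by omega)
  have hq1 : e ^ (q - 1) = 1 := by
    have h1 : Nat.card Kˣ = q - 1 := by rw [Nat.card_units, Nat.card_eq_fintype_card, hK]
    rw [← h1]
    exact pow_card_eq_one'
  have hsq : e ^ 2 ≠ 1 := by
    intro h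
    rcases ReeSplit.eq_one_or_neg_one_of_sq h with h | h
    · exact he1 h
    · exact he2 h
  have h2 : (e ^ 2) ^ ((q - 1) / 2) = 1 := by
    rw [← pow_mul]
    have : 2 * ((q - 1) / 2) = q - 1 := by omega
    rw [this, hq1]
  obtain ⟨l, hl, hle⟩ := Nat.exists_prime_and_dvd (n := orderOf (e ^ 2)) (fun h => hsq (orderOf_eq_one_iff.1 h))
  refine ⟨l, hl, ?_, hle.trans (orderOf_pow_dvd 2)⟩
  have h3 : l ∣ (q - 1) / 2 := hle.trans (orderOf_dvd_of_pow_eq_one h2)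
  have h4 := hl.two_le
  have h5 : l ≠ 2 := by
    rintro rfl
    omega
  have h6 : l ≠ 3 := by
    rintro rfl
    omega
  have h7 : l ≠ 4 := by
    rintro rfl
    exact absurd hl (by norm_num)
  omega

/-- a nontrivial field automorphism moves some element to something else than `± c` -/
theorem exists_move_unit {K : Type*} [Field K] (h2 : (2 : K) ≠ 0) {τ : K ≃+* K} (hτ : τ ≠ 1) :
    ∃ c : Kˣ, (Units.mapEquiv τ.toMulEquiv c) ≠ c ∧ (Units.mapEquiv τ.toMulEquiv c) ≠ -c := by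
  by_contra hno
  push Not at hno
  apply hτ
  ext x
  change τ x = x
  by_cases hx : x = 0
  · rw [hx, map_zero]
  have key : ∀ y : K, y ≠ 0 → τ y = y ∨ τ y = -y := by
    intro y hy
    by_cases h1 : (Units.mapEquiv τ.toMulEquiv (Units.mk0 y hy)) = Units.mk0 y hy
    · left
      exact congrArg (fun z : Kˣ => (z : K)) h1
    · right
      exact congrArg (fun z : Kˣ => (z : K)) (hno _ h1)
  rcases key x hx with h1 | h1
  · exact h1
  exfalso
  by_cases hx1 : 1 + x = 0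
  · have h3 : x = -1 := by linear_combination hx1
    rw [h3, map_neg, map_one, neg_neg] at h1
    apply h2
    linear_combination -h1
  · rcases key (1 + x) hx1 with h3 | h3
    · rw [map_add, map_one, h1] at h3
      apply mul_ne_zero h2 hx
      linear_combination -h3
    · rw [map_add, map_one, h1] at h3
      apply h2
      linear_combination h3

section Three

variable {K : Type*} [Field K] [Fintype K] {m : ℕ}

theorem outer_three (hm : 1 ≤ m) (hK : Fintype.card K = 3 ^ (2 * m + 1)) (a : MulAut ↥(twistedG2 K (3 ^ m)))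
    (ha3 : a ^ 3 = 1) (hout : ¬ ∃ g, a = MulAut.conj g) :
    ∃ (g : ↥(twistedG2 K (3 ^ m))) (l : ℕ), l.Prime ∧ 5 ≤ l ∧ l ∣ orderOf (g⁻¹ * a g) := by
  classical
  have hf3 : Fact (Nat.Prime 3) := ⟨Nat.prime_three⟩
  have hch := ReeAbs.charP_three hK
  obtain ⟨θ, c⟩ := Ree.Normal.exists_ctx hK
  have D := Ree.Data.data c
  have F := Cfsg.Agent.H71.FldAut.reeFld c
  have hfin : Finite ↥(twistedG2 K (3 ^ m)) := ReeSylowThree.finite D
  have Dl := ReeSetup.local_of_data D hK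
  -- a fixed Sylow subgroup
  have hpa : IsPGroup 3 (zpowers a) := by
    have h1 : orderOf a ∣ 3 ^ 1 := by rw [pow_one]; exact orderOf_dvd_of_pow_eq_one ha3
    obtain ⟨j, -, hj⟩ := (Nat.dvd_prime_pow Nat.prime_three).1 h1
    exact IsPGroup.of_card (n := j) (by rw [Nat.card_zpowers, hj])
  have hcs : ¬ 3 ∣ Nat.card (Sylow 3 ↥(twistedG2 K (3 ^ m))) := by
    have h1 := card_sylow_modEq_one 3 ↥(twistedG2 K (3 ^ m))
    intro h2
    have h3 : Nat.card (Sylow 3 ↥(twistedG2 K (3 ^ m))) % 3 = 1 % 3 := h1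
    omega
  obtain ⟨P, hP⟩ := hpa.nonempty_fixed_point_of_prime_not_dvd_card (Sylow 3 ↥(twistedG2 K (3 ^ m))) hcs
  have hPa : a • P = P := hP ⟨a, mem_zpowers a⟩
  have haP : ∀ x ∈ (P : Subgroup ↥(twistedG2 K (3 ^ m))), a x ∈ (P : Subgroup ↥(twistedG2 K (3 ^ m))) := by
    intro x hx
    have h1 : a • x ∈ ((a • P : Sylow 3 ↥(twistedG2 K (3 ^ m))) : Subgroup ↥(twistedG2 K (3 ^ m))) :=
      Subgroup.smul_mem_pointwise_smul x a (P : Subgroup ↥(twistedG2 K (3 ^ m))) hx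
    rw [hPa] at h1
    exact h1
  obtain ⟨g, hg⟩ := ReeD.three_le D hK P.2
  -- `P = g U g⁻¹`
  have hgP : ∀ x ∈ ReeSylowThree.uSub D, g * x * g⁻¹ ∈ (P : Subgroup ↥(twistedG2 K (3 ^ m))) := by
    have h1 : IsPGroup 3 ((ReeSylowThree.uSub D).map (MulAut.conj g).toMonoidHom) := by
      apply IsPGroup.map
      apply IsPGroup.of_card (n := 3 * (2 * m + 1))
      rw [ReeSylowThree.card_uSub D, hK, ← pow_mul, mul_comm]
    have h2 : (P : Subgroup ↥(twistedG2 K (3 ^ m))) ≤ (ReeSylowThree.uSub D).map (MulAut.conj g).toMonoidHom := by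
      intro x hx
      refine ⟨g⁻¹ * x * g, hg x hx, ?_⟩
      change g * (g⁻¹ * x * g) * g⁻¹ = x
      group
    have h3 := P.is_maximal' h1 h2
    intro x hx
    have h4 : g * x * g⁻¹ ∈ (ReeSylowThree.uSub D).map (MulAut.conj g).toMonoidHom := ⟨x, hx, rfl⟩
    rw [h3] at h4
    exact h4
  obtain ⟨b, hb⟩ : ∃ b : MulAut ↥(twistedG2 K (3 ^ m)), b = (MulAut.conj g)⁻¹ * a * MulAut.conj g := ⟨_, rfl⟩
  have hbx : ∀ x, b x = g⁻¹ * a (g * x * g⁻¹) * g := by
    intro x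
    rw [hb, MulAut.mul_apply, MulAut.mul_apply, MulAut.conj_apply, ← map_inv, MulAut.conj_apply, inv_inv]
  have hbU : ∀ x ∈ ReeSylowThree.uSub D, b x ∈ ReeSylowThree.uSub D := by
    intro x hx
    rw [hbx]
    exact hg _ (haP _ (hgP x hx))
  obtain ⟨g₀, τ, hbτ⟩ := Cfsg.Agent.H71.FldAut.ree_aut hm hK b
  have hbv : ∀ x, b x = g₀ * S2127.fld τ (3 ^ m) x * g₀⁻¹ := by
    intro x
    rw [hbτ, MulAut.mul_apply, MulAut.conj_apply]
  -- `g₀ ∈ B`
  have hg₀ : g₀ ∈ ReeSplit.bSub D := by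
    rw [← inv_inv g₀]
    apply (ReeSplit.bSub D).inv_mem
    have h1 : (S2127.fld τ (3 ^ m)) (Ree.Data.U K (3 ^ m) 0 0 1) = Ree.Data.U K (3 ^ m) 0 0 1 := by
      rw [F.onU, map_zero, map_one]
    refine ReeSplit.mem_bSub_of_inv_conj_mem D (x := Ree.Data.U K (3 ^ m) 0 0 1) ⟨0, 0, 1, rfl⟩ ?_ ?_
    · intro h2
      rw [← D.U_zero] at h2
      exact one_ne_zero (ReeSylowThree.U_injective D h2).2.2
    · have h2 := hbU _ (⟨0, 0, 1, rfl⟩ : Ree.Data.U K (3 ^ m) 0 0 1 ∈ ReeSylowThree.uSub D)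
      rw [hbv, h1] at h2
      rwa [inv_inv]
  have hτ : τ ≠ 1 := by
    rintro rfl
    apply hout
    refine ⟨g * g₀ * g⁻¹, ?_⟩
    have h1 : S2127.fld (1 : K ≃+* K) (3 ^ m) = 1 := by
      ext x : 1
      apply Subtype.ext
      apply Units.ext
      rw [Cfsg.Agent.H71.FldAut.coe_fldG]
      ext i j
      rfl
    rw [h1, mul_one, hb] at hbτ
    have h2 : a = MulAut.conj g * ((MulAut.conj g)⁻¹ * a * MulAut.conj g) * (MulAut.conj g)⁻¹ := by group
    rw [h2, hbτ, map_mul, map_mul, map_inv]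
  obtain ⟨t, u, v, d, hd⟩ := hg₀
  obtain ⟨k, hk1, hk2⟩ := exists_move_unit (ReePSL.two_ne (K := K)) hτ
  obtain ⟨k', hk'⟩ : ∃ k', k' = Units.mapEquiv τ.toMulEquiv k := ⟨_, rfl⟩
  rw [← hk'] at hk1 hk2
  obtain ⟨l, hl, hl5, hlk⟩ := exists_prime_unit hK (e := k⁻¹ * k') (fun h => hk1 (inv_mul_eq_one.1 h).symm) (fun h => by
    apply hk2
    have h1 : k' = k * (k⁻¹ * k') := by group
    rw [h1, h]
    simp)
  -- the element of the Borel subgroup
  have h1 : ∃ t' u' v', (Ree.Data.T c k)⁻¹ * b (Ree.Data.T c k) =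
      Ree.Data.U K (3 ^ m) t' u' v' * Ree.Data.T c (k⁻¹ * k') := by
    obtain ⟨t1, u1, v1, e1⟩ := ReeSylowThree.U_inv D t u v
    obtain ⟨t2, u2, v2, e2⟩ := ReeD.b_mul D 0 0 0 k⁻¹ t u v k'
    obtain ⟨t3, u3, v3, e3⟩ := ReeD.b_mul D t2 u2 v2 (k⁻¹ * k') t1 u1 v1 1
    refine ⟨t3, u3, v3, ?_⟩
    rw [hbv, F.onH, ← hk', hd, ← D.h_inv]
    have e4 : Ree.Data.U K (3 ^ m) t u v * Ree.Data.T c d * Ree.Data.T c k' *
        (Ree.Data.U K (3 ^ m) t u v * Ree.Data.T c d)⁻¹ =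
        Ree.Data.U K (3 ^ m) t u v * Ree.Data.T c k' * (Ree.Data.U K (3 ^ m) t u v)⁻¹ := by
      have e5 : Ree.Data.T c d * Ree.Data.T c k' = Ree.Data.T c k' * Ree.Data.T c d := D.h_comm d k'
      calc Ree.Data.U K (3 ^ m) t u v * Ree.Data.T c d * Ree.Data.T c k' *
          (Ree.Data.U K (3 ^ m) t u v * Ree.Data.T c d)⁻¹ = Ree.Data.U K (3 ^ m) t u v *
          (Ree.Data.T c d * Ree.Data.T c k') * (Ree.Data.T c d)⁻¹ * (Ree.Data.U K (3 ^ m) t u v)⁻¹ := by group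
        _ = _ := by rw [e5]; group
    rw [e4, e1]
    rw [D.U_zero, one_mul] at e2
    rw [D.h_one, mul_one, mul_one] at e3
    rw [← mul_assoc, e2, e3]
  obtain ⟨t', u', v', h2⟩ := h1
  refine ⟨g * Ree.Data.T c k * g⁻¹, l, hl, hl5, ?_⟩
  have h3 : (g * Ree.Data.T c k * g⁻¹)⁻¹ * a (g * Ree.Data.T c k * g⁻¹) =
      MulAut.conj g ((Ree.Data.T c k)⁻¹ * b (Ree.Data.T c k)) := by
    rw [hbx, MulAut.conj_apply]
    group
  have h4 : orderOf (MulAut.conj g ((Ree.Data.T c k)⁻¹ * b (Ree.Data.T c k))) =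
      orderOf ((Ree.Data.T c k)⁻¹ * b (Ree.Data.T c k)) :=
    orderOf_injective (MulAut.conj g).toMonoidHom (MulAut.conj g).injective _
  rw [h3, h4, h2]
  exact hlk.trans (ReeD.b_order D t' u' v' (k⁻¹ * k'))

end Three

theorem reeO_model {K : Type} [Field K] [Fintype K] {m : ℕ} (hm : 1 ≤ m) (hK : Fintype.card K = 3 ^ (2 * m + 1)) :
    ReeO m ↥(twistedG2 K (3 ^ m)) := by
  classical
  intro p a hp hap hout
  have hpf : Fact p.Prime := ⟨hp⟩
  have hcyc : IsCyclic (K ≃+* K) := LieRecognition.FieldSemilinear.isCyclic_ringAut K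
  have hfinR := finite_ringAut K
  have hfin : Finite ↥(twistedG2 K (3 ^ m)) := by
    obtain ⟨U, h, n, D⟩ := Cfsg.Agent.ChevalleyStructure.Ree.Data.exists_data (K := K) hK
    exact ReeSylowThree.finite D
  have ha1 : a ≠ 1 := by
    rintro rfl
    exact hout ⟨1, by simp⟩
  have hao : orderOf a = p := orderOf_eq_prime hap ha1
  have hp2 : p ≠ 2 := by
    rintro rfl
    -- `a ^ (2m+1)` is inner
    obtain ⟨g, σ, h⟩ := Cfsg.Agent.H71.FldAut.ree_aut hm hK a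
    have h' : a = MulAut.conj g * fieldAut (stab_g2 (K := K) (3 ^ m)) σ := h
    obtain ⟨k, hk⟩ := pow_form (fieldAut (stab_g2 (K := K) (3 ^ m))) g σ (2 * m + 1)
    apply hout
    have hσ : σ ^ (2 * m + 1) = 1 := by
      have h1 := card_Fx σ
      rw [Nat.card_eq_fintype_card, hK] at h1
      have h2 : Nat.card ↥(Fx σ) ∣ 3 ^ (2 * m + 1) := by
        rw [h1]
        exact dvd_pow_self _ (orderOf_pos σ).ne'
      obtain ⟨i, -, hi⟩ := (Nat.dvd_prime_pow Nat.prime_three).1 h2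
      rw [hi, ← pow_mul] at h1
      have h3 := Nat.pow_right_injective (by norm_num : 2 ≤ 3) h1
      apply orderOf_dvd_iff_pow_eq_one.1
      exact ⟨i, h3.trans (mul_comm _ _)⟩
    refine ⟨k, ?_⟩
    rw [hσ, map_one, mul_one, ← h'] at hk
    exact (pow_odd_eq hap m).symm.trans hk
  by_cases hp3 : p = 3
  · left
    subst hp3
    exact ⟨rfl, outer_three hm hK a hap hout⟩
  right
  have hp5 : 5 ≤ p := by
    have := hp.two_le
    have h4 : p ≠ 4 := by
      rintro rfl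
      exact absurd hp (by norm_num)
    omega
  obtain ⟨σ, hσ, g, hg⟩ := (ree_data hm hK hp5).form hao hout
  obtain ⟨m₀, j, h1, h2, h3⟩ := ree_exp hm hK hp5 hσ
  obtain ⟨f, hf, hfix⟩ := ree_fixed hK σ h1 h2
  have hfinE : Fintype ↥(Fx σ) := Fintype.ofFinite _
  have hE' : Fintype.card ↥(Fx σ) = 3 ^ (2 * m₀ + 1) := by rw [← Nat.card_eq_fintype_card, h1]
  refine ⟨hp5, ⟨2 * m₀ + 1, by rw [h3, mul_comm]⟩, ?_⟩
  have h4 : (2 * m + 1) / p = 2 * m₀ + 1 := by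
    rw [h3]
    exact Nat.mul_div_cancel _ hp.pos
  rw [h4]
  have h5 : Nat.card {s : ↥(twistedG2 K (3 ^ m)) // a s = s} =
      Nat.card {s : ↥(twistedG2 K (3 ^ m)) // fieldAut (stab_g2 (K := K) (3 ^ m)) σ s = s} := by
    refine Nat.card_congr (Equiv.subtypeEquiv (MulAut.conj g)⁻¹.toEquiv fun s => ?_)
    change a s = s ↔ fieldAut (stab_g2 (K := K) (3 ^ m)) σ ((MulAut.conj g)⁻¹ s) = (MulAut.conj g)⁻¹ s
    rw [hg]
    change MulAut.conj g (fieldAut (stab_g2 (K := K) (3 ^ m)) σ ((MulAut.conj g)⁻¹ s)) = s ↔ _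
    obtain ⟨y, hy⟩ : ∃ y, y = (MulAut.conj g)⁻¹ s := ⟨_, rfl⟩
    have hs : s = MulAut.conj g y := by rw [hy]; exact ((MulAut.conj g).apply_symm_apply s).symm
    rw [← hy]
    conv_lhs => rw [hs]
    exact (MulAut.conj g).injective.eq_iff
  rw [h5, Nat.card_congr (Equiv.subtypeEquivRight hfix)]
  have h9 : Nat.card ↥f.range = Nat.card ↥(twistedG2 ↥(Fx σ) (3 ^ m₀)) :=
    (Nat.card_congr (MonoidHom.ofInjective hf).toEquiv).symm
  exact (le_of_eq h9).trans (card_ree_le hE')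

theorem ReeO.congr {m : ℕ} {S S' : Type*} [Group S] [Group S'] (e : S ≃* S') (h : ReeO m S) : ReeO m S' := by
  intro p a hp hap hout
  let b : MulAut S := (e.trans a).trans e.symm
  have hb : ∀ n : ℕ, ∀ s, (b ^ n) s = e.symm ((a ^ n) (e s)) := by
    intro n
    induction n with
    | zero => intro s; simp
    | succ n ih =>
      intro s
      rw [pow_succ, MulAut.mul_apply, ih, pow_succ, MulAut.mul_apply]
      change e.symm ((a ^ n) (e (e.symm (a (e s))))) = _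
      rw [e.apply_symm_apply]
  have hbp : b ^ p = 1 := by
    ext s
    rw [hb, hap]
    simp
  rcases h p b hp hbp (by
    rintro ⟨g, hg⟩
    apply hout
    refine ⟨e g, ?_⟩
    ext s
    have h1 := congrArg (fun c : MulAut S => e (c (e.symm s))) hg
    simp only [MulAut.conj_apply, map_mul, map_inv, e.apply_symm_apply] at h1
    have h2 : e (b (e.symm s)) = a s := by
      change e (e.symm (a (e (e.symm s)))) = a s
      simp
    rw [h2] at h1
    rw [h1, MulAut.conj_apply]) with ⟨h1, g, l, hl, hl5, hlg⟩ | ⟨h1, h2, h3⟩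
  · left
    refine ⟨h1, e g, l, hl, hl5, ?_⟩
    have h2 : (e g)⁻¹ * a (e g) = e (g⁻¹ * b g) := by
      rw [map_mul, map_inv]
      change _ = (e g)⁻¹ * e (e.symm (a (e g)))
      rw [e.apply_symm_apply]
    have h3 : orderOf (e (g⁻¹ * b g)) = orderOf (g⁻¹ * b g) :=
      orderOf_injective e.toMonoidHom e.injective _
    rw [h2, h3]
    exact hlg
  · right
    refine ⟨h1, h2, le_trans (le_of_eq ?_) h3⟩
    refine Nat.card_congr (Equiv.subtypeEquiv e.symm.toEquiv fun s => ?_)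
    change a s = s ↔ e.symm (a (e (e.symm s))) = e.symm s
    simp

theorem reeO {S : Type*} [Group S] {K : Type} [Field K] [Fintype K] {m : ℕ}
    (hm : 1 ≤ m) (hK : Fintype.card K = 3 ^ (2 * m + 1)) (e : S ≃* ↥(twistedG2 K (3 ^ m))) : ReeO m S :=
  ReeO.congr e.symm (reeO_model hm hK)

end Cfsg.Agent.H452.RG
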