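import Cfsg.Agent.H452.RG.SzRow
import Cfsg.Agent.H452.RG.ReeModel
import Cfsg.Agent.H452.RG.ReeOuter

/-!
# The row of the Ree groups `²G₂(q)`
-/

set_option autoImplicit false

namespace Cfsg.Agent.H452.RG

open MulAction Cfsg.Agent.H106.RC Cfsg.Agent.H873.RG

/-- the automorphism induced by an element outside a normal subgroup -/
theorem env_outer' {G Ω : Type*} [Group G] [MulAction G Ω] {N : Subgroup G} (hE : Env G Ω N) (hN : N.Normal)
    {y : G} (hy : y ∉ N) {p : ℕ} (hyp : y ^ p = 1) :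
    ∃ a : MulAut N, a ^ p = 1 ∧ (¬ ∃ g, a = MulAut.conj g) ∧ ∀ n : N, ((a n : N) : G) = y * n * y⁻¹ := by
  refine ⟨MulAut.conjNormal y, ?_, ?_, fun n => MulAut.conjNormal_apply y n⟩
  · rw [← map_pow, hyp, map_one]
  · rintro ⟨g, hg⟩
    apply hy
    have h1 : (g : G)⁻¹ * y ∈ Subgroup.centralizer (N : Set G) := by
      rw [Subgroup.mem_centralizer_iff]
      intro n hn
      have h2 := congrArg (fun c : MulAut N => ((c ⟨n, hn⟩ : N) : G)) hg
      simp only [MulAut.conjNormal_apply, MulAut.conj_apply] at h2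
      have h3 : y * n * y⁻¹ = (g : G) * n * (g : G)⁻¹ := h2
      calc n * ((g : G)⁻¹ * y) = (g : G)⁻¹ * ((g : G) * n * (g : G)⁻¹) * y := by group
        _ = (g : G)⁻¹ * (y * n * y⁻¹) * y := by rw [h3]
        _ = (g : G)⁻¹ * y * n := by group
    rw [hE.cent, Subgroup.mem_bot] at h1
    have h2 : y = g := by
      calc y = (g : G) * ((g : G)⁻¹ * y) := by group
        _ = g := by rw [h1, mul_one]
    rw [h2]
    exact g.2

/-- an element and a conjugate: `2 |FS x| ≤ |N| + |FS [x, g]|` -/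
theorem two_FS {G : Type*} [Group G] {N : Subgroup G} [Finite N] (K : Subgroup G) (x : G) (g y : N)
    (hy : (y : G) = (g : G)⁻¹ * (x * g * x⁻¹)) :
    2 * (FS N.subtype K x).ncard ≤ Nat.card N + (FS N.subtype K (y : G)).ncard := by
  classical
  have h1 := ncard_FS_conj (ι := N.subtype) (K := K) x g⁻¹
  have h2 := Set.ncard_union_add_ncard_inter (FS N.subtype K x)
    (FS N.subtype K (N.subtype g⁻¹ * x * (N.subtype g⁻¹)⁻¹))
  rw [h1] at h2
  have h3 : (FS N.subtype K x ∪ FS N.subtype K (N.subtype g⁻¹ * x * (N.subtype g⁻¹)⁻¹)).ncard ≤ Nat.card N := by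
    rw [← Set.ncard_univ]
    exact Set.ncard_le_ncard (Set.subset_univ _) (Set.toFinite _)
  have h4 : FS N.subtype K x ∩ FS N.subtype K (N.subtype g⁻¹ * x * (N.subtype g⁻¹)⁻¹) ⊆
      FS N.subtype K (y : G) := by
    rintro n ⟨hn1, hn2⟩
    have h5 := FS_mul hn2 (FS_inv hn1)
    have h6 : N.subtype g⁻¹ * x * (N.subtype g⁻¹)⁻¹ * x⁻¹ = (y : G) := by
      rw [hy]
      change ((g⁻¹ : N) : G) * x * ((g⁻¹ : N) : G)⁻¹ * x⁻¹ = _
      rw [Subgroup.coe_inv]
      group
    rwa [h6] at h5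
  have h5 := Set.ncard_le_ncard h4 (Set.toFinite _)
  omega

theorem geom_2187 (A : ℕ) : 2186 * ∑ a ∈ Finset.range (A + 1), 2187 ^ a < 2187 * 2187 ^ A := by
  induction A with
  | zero => simp
  | succ A ih =>
    rw [Finset.sum_range_succ, mul_add, pow_succ]
    omega

theorem num_W3 {m : ℕ} (hm : 1 ≤ m) :
    22 * ∑ a ∈ Finset.range ((2 * m + 1) / 5 + 1), 2187 ^ a ≤ (3 ^ (2 * m + 1)) ^ 2 := by
  obtain ⟨A, hA⟩ : ∃ A, A = (2 * m + 1) / 5 := ⟨_, rfl⟩
  rw [← hA]
  rcases Nat.eq_zero_or_pos A with h0 | h0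
  · rw [h0]
    have h1 : 27 ≤ 3 ^ (2 * m + 1) := by
      calc 27 = 3 ^ 3 := by norm_num
        _ ≤ 3 ^ (2 * m + 1) := Nat.pow_le_pow_right (by norm_num) (by omega)
    simp only [zero_add, Finset.range_one, Finset.sum_singleton, pow_zero]
    nlinarith
  · have h1 := geom_2187 A
    have h2 : 27 * 2187 ^ A ≤ (3 ^ (2 * m + 1)) ^ 2 := by
      have h3 : (2187 : ℕ) ^ A = 3 ^ (7 * A) := by rw [pow_mul]; norm_num
      have h4 : 27 = 3 ^ 3 := by norm_num
      rw [h3, h4, ← pow_add, ← pow_mul]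
      apply Nat.pow_le_pow_right (by norm_num)
      omega
    omega

/-- numbers -/
theorem num_q {m : ℕ} (hm : 1 ≤ m) : 64 + 132 * m < 8 * 3 ^ (2 * m + 1) := by
  induction m, hm using Nat.le_induction with
  | base => norm_num
  | succ m hm ih =>
    rw [show 2 * (m + 1) + 1 = (2 * m + 1) + 2 by ring, pow_add]
    omega

theorem num_k3 {m k : ℕ} (hm : 1 ≤ m) (h : 5 ^ k ≤ 3 * 3 ^ (2 * m + 1)) : k ≤ 2 * m := by
  by_contra hk
  push Not at hk
  have h1 : 5 ^ (2 * m + 1) ≤ 5 ^ k := Nat.pow_le_pow_right (by norm_num) (by omega)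
  have h2 : ∀ j : ℕ, 1 ≤ j → 3 * 3 ^ (2 * j + 1) < 5 ^ (2 * j + 1) := by
    intro j hj
    induction j, hj using Nat.le_induction with
    | base => norm_num
    | succ j hj ih =>
      rw [show 2 * (j + 1) + 1 = (2 * j + 1) + 2 by ring, pow_add, pow_add 5]
      omega
  have h3 := h2 m hm
  omega

theorem noCov_ree {S : Type} [Group S] {m : ℕ} (hm : 1 ≤ m) (hI' : ReeI m S) (hO' : ReeO m S) : NoCov S := by
  classical
  intro G _ _ Ω _ _ _ N hE e ι _ x r hx hcov _
  have hι : Fintype ι := Fintype.ofFinite ι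
  have hI : ReeI m N := hI'.congr e.symm
  have hO : ReeO m N := ReeO.congr e.symm hO'
  obtain ⟨ω⟩ := (inferInstance : Nonempty Ω)
  obtain ⟨K, hKdef⟩ : ∃ K, K = stabilizer G ω := ⟨_, rfl⟩
  obtain ⟨H, hHdef⟩ : ∃ H, H = K.subgroupOf N := ⟨_, rfl⟩
  have hH : H ≠ ⊤ := by
    intro h1
    apply hE.nofix ω
    intro n hn
    have h2 : (⟨n, hn⟩ : N) ∈ H := by rw [h1]; trivial
    rw [hHdef, hKdef] at h2
    exact h2
  obtain ⟨A, hAdef⟩ : ∃ A : ι → ℕ, A = fun i => (FS N.subtype K (x i)).ncard := ⟨_, rfl⟩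
  have hsum : Nat.card N ≤ ∑ i, A i := by
    have h1 := card_le_sum N hcov ω
    rw [← hKdef] at h1
    rw [hAdef]
    exact h1
  obtain ⟨h, hh⟩ : ∃ h, h = Nat.card H := ⟨_, rfl⟩
  have hh0 : 0 < h := by rw [hh]; exact Nat.card_pos
  have hle : ∀ y : G, (FS N.subtype K y).ncard ≤ Nat.card {n : N // y * n = n * y} * h := by
    intro y
    have h1 := card_move_le N K hE.norm y
    rw [card_inf_eq, ← hHdef, ← hh] at h1
    exact h1
  obtain ⟨q, hq⟩ : ∃ q, q = 3 ^ (2 * m + 1) := ⟨_, rfl⟩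
  obtain ⟨s, hs⟩ : ∃ s, s = 3 ^ (m + 1) := ⟨_, rfl⟩
  have hq27 : 27 ≤ q := by
    rw [hq]
    calc 27 = 3 ^ 3 := by norm_num
      _ ≤ 3 ^ (2 * m + 1) := Nat.pow_le_pow_right (by norm_num) (by omega)
  have hs3 : 3 * s ≤ q := by
    rw [hs, hq, ← pow_succ']
    exact Nat.pow_le_pow_right (by norm_num) (by omega)
  obtain ⟨W, hW⟩ : ∃ W, W = ∑ a ∈ Finset.range ((2 * m + 1) / 5 + 1), 2187 ^ a := ⟨_, rfl⟩
  have hWn := num_W3 hm
  rw [← hW, ← hq] at hWn
  have hqn := num_q hm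
  rw [← hq] at hqn
  obtain ⟨L, hL⟩ : ∃ L, L = 2 * (3 ^ (2 * m + 1) + 3 ^ (m + 1) + 1) := ⟨_, rfl⟩
  have hL3 : L ≤ 3 * q := by rw [hL, ← hq, ← hs]; omega
  obtain ⟨M, hM⟩ : ∃ M, M = Nat.card N := ⟨_, rfl⟩
  rw [← hM] at hsum
  have hidx := hI.idx H hH
  rw [← hq, ← hh, ← hM] at hidx
  -- orders
  have hord : ∀ (i) (hi : x i ∈ N), orderOf (⟨x i, hi⟩ : N) = r i := by
    intro i hi
    rw [Subgroup.orderOf_mk]
    have := Fact.mk (hx.prime i)
    exact orderOf_eq_prime (hx.pow i) (hx.ne i)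
  have hcin : ∀ y : N, Nat.card {n : N // (y : G) * n = n * y} = Nat.card {n : N // y * n = n * y} := by
    intro y
    refine Nat.card_congr (Equiv.subtypeEquivRight fun n => ?_)
    rw [Subtype.ext_iff]
    rfl
  have hAin : ∀ y : N, (FS N.subtype K (y : G)).ncard = Nat.card {n : N // n⁻¹ * y * n ∈ H} := by
    intro y
    rw [hHdef]
    rfl
  have hcent5 : ∀ (p : ℕ) (y : N), p.Prime → 5 ≤ p → orderOf y = p →
      (FS N.subtype K (y : G)).ncard ≤ L * h := by
    intro p y hp hp5 hy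
    refine (hle y).trans ?_
    rw [hcin, hL]
    exact Nat.mul_le_mul_right _ (hI.cent p y hp hp5 hy)
  -- the sets of members
  obtain ⟨R2, hR2⟩ : ∃ R2 : Finset ι, R2 = Finset.univ.filter fun i => r i = 2 := ⟨_, rfl⟩
  obtain ⟨R3, hR3⟩ : ∃ R3 : Finset ι, R3 = Finset.univ.filter fun i => r i = 3 := ⟨_, rfl⟩
  obtain ⟨I5, hI5⟩ : ∃ I5 : Finset ι, I5 = Finset.univ.filter fun i => 5 ≤ r i ∧ x i ∈ N := ⟨_, rfl⟩
  obtain ⟨O5, hO5⟩ : ∃ O5 : Finset ι, O5 = Finset.univ.filter fun i => 5 ≤ r i ∧ x i ∉ N := ⟨_, rfl⟩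
  have hm2 : ∀ i, i ∈ R2 ↔ r i = 2 := by intro i; rw [hR2]; simp
  have hm3 : ∀ i, i ∈ R3 ↔ r i = 3 := by intro i; rw [hR3]; simp
  have hmI : ∀ i, i ∈ I5 ↔ 5 ≤ r i ∧ x i ∈ N := by intro i; rw [hI5]; simp
  have hmO : ∀ i, i ∈ O5 ↔ 5 ≤ r i ∧ x i ∉ N := by intro i; rw [hO5]; simp
  have htot : ∑ i, A i ≤ ∑ i ∈ R2, A i + ∑ i ∈ R3, A i + ∑ i ∈ I5, A i + ∑ i ∈ O5, A i := by
    have h1 : (Finset.univ : Finset ι) ⊆ ((R2 ∪ R3) ∪ I5) ∪ O5 := by
      intro i _
      rw [Finset.mem_union, Finset.mem_union, Finset.mem_union, hm2, hm3, hmI, hmO]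
      have hp := hx.prime i
      have h2 := hp.two_le
      have h4 : r i ≠ 4 := by
        intro h4
        rw [h4] at hp
        exact absurd hp (by norm_num)
      by_cases hN : x i ∈ N
      · rcases (by omega : r i = 2 ∨ r i = 3 ∨ 5 ≤ r i) with h | h | h
        · exact Or.inl (Or.inl (Or.inl h))
        · exact Or.inl (Or.inl (Or.inr h))
        · exact Or.inl (Or.inr ⟨h, hN⟩)
      · rcases (by omega : r i = 2 ∨ r i = 3 ∨ 5 ≤ r i) with h | h | h
        · exact Or.inl (Or.inl (Or.inl h))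
        · exact Or.inl (Or.inl (Or.inr h))
        · exact Or.inr ⟨h, hN⟩
    have hu : ∀ s t : Finset ι, ∑ i ∈ s ∪ t, A i ≤ ∑ i ∈ s, A i + ∑ i ∈ t, A i := by
      intro s t
      rw [← Finset.sum_union_inter]
      exact Nat.le_add_right _ _
    calc ∑ i, A i ≤ ∑ i ∈ ((R2 ∪ R3) ∪ I5) ∪ O5, A i := Finset.sum_le_sum_of_subset h1
      _ ≤ ∑ i ∈ (R2 ∪ R3) ∪ I5, A i + ∑ i ∈ O5, A i := hu _ _
      _ ≤ (∑ i ∈ R2 ∪ R3, A i + ∑ i ∈ I5, A i) + ∑ i ∈ O5, A i := Nat.add_le_add_right (hu _ _) _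
      _ ≤ ((∑ i ∈ R2, A i + ∑ i ∈ R3, A i) + ∑ i ∈ I5, A i) + ∑ i ∈ O5, A i :=
          Nat.add_le_add_right (Nat.add_le_add_right (hu _ _) _) _
  -- outer members of order at least `5`
  have hOsum : ∑ i ∈ O5, A i ≤ W * h := by
    have hout : ∀ i, 5 ≤ r i → x i ∉ N → r i ∣ 2 * m + 1 ∧
        Nat.card {n : N // x i * n = n * x i} ≤ 2187 ^ ((2 * m + 1) / r i) := by
      intro i h5 hi
      obtain ⟨a, ha1, ha2, ha3⟩ := env_outer hE hE.norm hi (hx.pow i)
      rw [ha3]
      rcases hO (r i) a (hx.prime i) ha1 ha2 with ⟨h1, -⟩ | ⟨-, h1, h2⟩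
      · omega
      · exact ⟨h1, h2⟩
    calc ∑ i ∈ O5, A i ≤ ∑ i ∈ O5, 2187 ^ ((2 * m + 1) / r i) * h := by
          apply Finset.sum_le_sum
          intro i hi
          rw [hmO] at hi
          rw [hAdef]
          exact (hle (x i)).trans (Nat.mul_le_mul_right _ (hout i hi.1 hi.2).2)
      _ = (∑ i ∈ O5, 2187 ^ ((2 * m + 1) / r i)) * h := by rw [Finset.sum_mul]
      _ ≤ W * h := by
          apply Nat.mul_le_mul_right
          rw [hW]
          have hinj : Set.InjOn (fun i => (2 * m + 1) / r i) O5 := by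
            intro i hi j hj hij
            have hi' := (hmO i).1 hi
            have hj' := (hmO j).1 hj
            apply hx.inj
            obtain ⟨a, ha⟩ := (hout i hi'.1 hi'.2).1
            obtain ⟨b, hb⟩ := (hout j hj'.1 hj'.2).1
            have hi0 : 0 < r i := by omega
            have hj0 : 0 < r j := by omega
            have h1 : (2 * m + 1) / r i = a := by rw [ha]; exact Nat.mul_div_cancel_left _ hi0
            have h2 : (2 * m + 1) / r j = b := by rw [hb]; exact Nat.mul_div_cancel_left _ hj0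
            simp only at hij
            rw [h1, h2] at hij
            subst hij
            have ha0 : a ≠ 0 := by rintro rfl; omega
            have h4 : r i * a = r j * a := by rw [← ha, ← hb]
            exact Nat.eq_of_mul_eq_mul_right (Nat.pos_of_ne_zero ha0) h4
          rw [← Finset.sum_image (f := fun a => 2187 ^ a) hinj]
          apply Finset.sum_le_sum_of_subset
          intro a ha
          obtain ⟨i, hi, rfl⟩ := Finset.mem_image.1 ha
          rw [Finset.mem_range]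
          have : (2 * m + 1) / r i ≤ (2 * m + 1) / 5 := Nat.div_le_div_left ((hmO i).1 hi).1 (by norm_num)
          omega
  -- the member of order `2`
  have hone : ∀ (R : Finset ι) (c : ℕ), (∀ i, i ∈ R ↔ r i = c) → R = ∅ ∨ ∃ i, r i = c ∧ R = {i} := by
    intro R c hR
    rcases R.eq_empty_or_nonempty with h0 | ⟨i, hi⟩
    · exact Or.inl h0
    · right
      refine ⟨i, (hR i).1 hi, ?_⟩
      ext j
      rw [hR, Finset.mem_singleton]
      constructor
      · intro hj
        exact hx.inj (hj.trans ((hR i).1 hi).symm)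
      · rintro rfl
        exact (hR j).1 hi
  have h2sum : 11 * ∑ i ∈ R2, A i ≤ M + 11 * (q - 1) * h := by
    rcases hone R2 2 hm2 with h0 | ⟨i, hi, h0⟩
    · rw [h0, Finset.sum_empty, mul_zero]; exact Nat.zero_le _
    · rw [h0, Finset.sum_singleton]
      have hN : x i ∈ N := by
        by_contra hN
        obtain ⟨a, ha1, ha2, ha3⟩ := env_outer hE hE.norm hN (hx.pow i)
        rcases hO (r i) a (hx.prime i) ha1 ha2 with ⟨h1, -⟩ | ⟨h1, -⟩ <;> omega
      have h1 := hI.inv H ⟨x i, hN⟩ ((hord i hN).trans hi)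
      rw [← hAin ⟨x i, hN⟩, ← hM, ← hq, ← hh] at h1
      rw [hAdef]
      exact h1
  -- the member of order `3`
  by_cases hz : ∃ i, r i = 3 ∧ x i ∈ N
  · obtain ⟨i₃, hr₃, hN₃⟩ := hz
    have h3sum : 3 * ∑ i ∈ R3, A i ≤ 2 * M + (q - 1) * h := by
      rcases hone R3 3 hm3 with h0 | ⟨i, hi, h0⟩
      · rw [h0, Finset.sum_empty, mul_zero]; exact Nat.zero_le _
      · rw [h0, Finset.sum_singleton]
        have hii : i = i₃ := hx.inj (hi.trans hr₃.symm)
        subst hii
        have h1 := hI.three H hH ⟨x i, hN₃⟩ ((hord i hN₃).trans hi)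
        rw [← hAin ⟨x i, hN₃⟩, ← hM, ← hq, ← hh] at h1
        rw [hAdef]
        exact h1
    have hI0 : I5 = ∅ := by
      rw [Finset.eq_empty_iff_forall_notMem]
      intro i hi
      obtain ⟨h5, hi'⟩ := (hmI i).1 hi
      exact hI.noComm (r i) ⟨x i, hi'⟩ ⟨x i₃, hN₃⟩ (hx.prime i) h5 (hord i hi') ((hord i₃ hN₃).trans hr₃)
        (Subtype.ext (hx.comm i₃ i))
    rw [hI0, Finset.sum_empty, add_zero] at htot
    have h5 : 8 * M ≤ (44 * (q - 1) + 33 * W) * h := by
      have h6 : (44 * (q - 1) + 33 * W) * h = 4 * (11 * (q - 1) * h) + 33 * (W * h) := by ring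
      have h7 : 11 * (q - 1) * h = 11 * ((q - 1) * h) := by ring
      rw [h6, h7]
      rw [h7] at h2sum
      omega
    have h6 : (8 * (q ^ 2 - q + 1)) * h ≤ (44 * (q - 1) + 33 * W) * h := by
      calc (8 * (q ^ 2 - q + 1)) * h = 8 * ((q ^ 2 - q + 1) * h) := by ring
        _ ≤ 8 * M := Nat.mul_le_mul_left _ hidx
        _ ≤ _ := h5
    have h7 := Nat.le_of_mul_le_mul_right h6 hh0
    have h8 : 27 * q ≤ q ^ 2 := by rw [pow_two]; exact Nat.mul_le_mul_right _ hq27
    omega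
  · push Not at hz
    have h3sum : 2 * ∑ i ∈ R3, A i ≤ M + L * h := by
      rcases hone R3 3 hm3 with h0 | ⟨i, hi, h0⟩
      · rw [h0, Finset.sum_empty, mul_zero]; exact Nat.zero_le _
      · rw [h0, Finset.sum_singleton]
        have hN : x i ∉ N := hz i hi
        obtain ⟨a, ha1, ha2, ha3⟩ := env_outer' hE hE.norm hN (hx.pow i)
        rcases hO (r i) a (hx.prime i) ha1 ha2 with ⟨-, g, l, hl, hl5, hlg⟩ | ⟨h1, -⟩
        · have h1 := two_FS K (x i) g (g⁻¹ * a g) (by
            rw [Subgroup.coe_mul, Subgroup.coe_inv, ha3])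
          -- a power of prime order
          obtain ⟨y, hy⟩ : ∃ y, y = g⁻¹ * a g := ⟨_, rfl⟩
          rw [← hy] at h1 hlg
          have hpos := orderOf_pos y
          have hyo : orderOf (y ^ (orderOf y / l)) = l := by
            rw [orderOf_pow' y (Nat.div_pos (Nat.le_of_dvd hpos hlg) hl.pos).ne']
            rw [Nat.gcd_eq_right (Nat.div_dvd_of_dvd hlg), Nat.div_div_self hlg hpos.ne']
          have h2 : (FS N.subtype K (y : G)).ncard ≤ (FS N.subtype K ((y ^ (orderOf y / l) : N) : G)).ncard := by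
            apply Set.ncard_le_ncard _ (Set.toFinite _)
            intro n hn
            rw [Subgroup.coe_pow]
            exact FS_pow hn _
          have h3 := hcent5 l _ hl hl5 hyo
          rw [hAdef, hM]
          exact h1.trans (Nat.add_le_add_left (h2.trans h3) _)
        · omega
    -- inner members of order at least `5`
    have hIsum : ∑ i ∈ I5, A i ≤ 2 * m * (L * h) := by
      have hk : I5.card ≤ 2 * m := by
        rcases I5.eq_empty_or_nonempty with h0 | ⟨i₁, hi₁⟩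
        · rw [h0]; simp
        obtain ⟨h51, hi₁'⟩ := (hmI i₁).1 hi₁
        apply num_k3 hm
        rw [← hq]
        refine le_trans ?_ hL3
        have h1 := hI.cent (r i₁) ⟨x i₁, hi₁'⟩ (hx.prime i₁) h51 (hord i₁ hi₁')
        rw [← hL] at h1
        refine le_trans ?_ h1
        let C : Subgroup N := Subgroup.centralizer {(⟨x i₁, hi₁'⟩ : N)}
        have hC : Nat.card {n : N // (⟨x i₁, hi₁'⟩ : N) * n = n * ⟨x i₁, hi₁'⟩} = Nat.card C := by
          refine Nat.card_congr (Equiv.subtypeEquivRight fun n => ?_)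
          rw [Subgroup.mem_centralizer_singleton_iff]
          exact eq_comm
        rw [hC]
        apply card_pow_le I5 hx.inj (fun i _ => hx.prime i) Nat.card_pos.ne'
        · intro i hi
          have hi' := ((hmI i).1 hi).2
          have h1 : (⟨x i, hi'⟩ : N) ∈ C := by
            rw [Subgroup.mem_centralizer_singleton_iff]
            exact Subtype.ext (hx.comm i i₁)
          have h2 := orderOf_dvd_natCard (⟨_, h1⟩ : C)
          rwa [Subgroup.orderOf_mk, hord i hi'] at h2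
        · intro i hi
          exact ((hmI i).1 hi).1
      calc ∑ i ∈ I5, A i ≤ ∑ i ∈ I5, L * h := by
            apply Finset.sum_le_sum
            intro i hi
            obtain ⟨h5, hi'⟩ := (hmI i).1 hi
            rw [hAdef]
            exact hcent5 (r i) ⟨x i, hi'⟩ (hx.prime i) h5 (hord i hi')
        _ = I5.card * (L * h) := by rw [Finset.sum_const, smul_eq_mul]
        _ ≤ _ := Nat.mul_le_mul_right _ hk
    have h5 : 9 * M ≤ (22 * (q - 1) + 11 * L + 44 * m * L + 22 * W) * h := by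
      have h6 : (22 * (q - 1) + 11 * L + 44 * m * L + 22 * W) * h =
          22 * ((q - 1) * h) + 11 * (L * h) + 22 * (2 * m * (L * h)) + 22 * (W * h) := by ring
      have h7 : 11 * (q - 1) * h = 11 * ((q - 1) * h) := by ring
      rw [h6]
      rw [h7] at h2sum
      omega
    have h6 : (9 * (q ^ 2 - q + 1)) * h ≤ (22 * (q - 1) + 11 * L + 44 * m * L + 22 * W) * h := by
      calc (9 * (q ^ 2 - q + 1)) * h = 9 * ((q ^ 2 - q + 1) * h) := by ring
        _ ≤ 9 * M := Nat.mul_le_mul_left _ hidx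
        _ ≤ _ := h5
    have h7 := Nat.le_of_mul_le_mul_right h6 hh0
    have h8 : (64 + 132 * m) * q ≤ (8 * q) * q := Nat.mul_le_mul_right _ hqn.le
    have h9 : 44 * m * L ≤ 132 * m * q := by
      calc 44 * m * L ≤ 44 * m * (3 * q) := Nat.mul_le_mul_left _ hL3
        _ = 132 * m * q := by ring
    have h10 : (64 + 132 * m) * q = 64 * q + 132 * m * q := by ring
    have h11 : (8 * q) * q = 8 * q ^ 2 := by ring
    have h12 : q ≤ q ^ 2 := Nat.le_self_pow (by norm_num) q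
    omega

/-- **The row of the Ree groups.** -/
theorem rowX_ree : RowX (fun S _ => Cfsg.Lie.IsoRee S) := by
  intro S _ _ hS hree _
  obtain ⟨K, iK, iK', m, hm, hK, ⟨e⟩⟩ := hree
  have := hS.simple
  exact rc_of_noCov hS.simple hS.ncomm (noCov_ree hm (reeI hm hK e) (reeO hm hK e))

end Cfsg.Agent.H452.RG
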