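import Cfsg.Agent.H452.FprSz

/-!
# Data of the Suzuki groups for counting arguments

* `SzI m S` : order, indices of subgroups, centralisers of elements of prime order;
* `szI_model` : `SzI m (Sz F m)`; `SzI.congr`.
-/

set_option autoImplicit false
open Subgroup MulAction
open scoped Pointwise

namespace Cfsg.Agent.H452.RG

open Cfsg.Agent.H409 Cfsg.Agent.H452.FprCyc Cfsg.Agent.H452.FprTorus Cfsg.Agent.H452.FprRank
open Cfsg.Agent.H452.FprRee Cfsg.Agent.H452.FprSz

/-- Data of a Suzuki group. -/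
structure SzI (m : ℕ) (S : Type*) [Group S] : Prop where
  card : Nat.card S = (2 ^ (2 * m + 1)) ^ 2 * (((2 ^ (2 * m + 1)) ^ 2 + 1) * (2 ^ (2 * m + 1) - 1))
  sub : ∀ H : Subgroup S, H ≠ ⊤ → ((2 ^ (2 * m + 1)) ^ 2 + 1) * Nat.card H ≤ Nat.card S
  inv : ∀ H : Subgroup S, H ≠ ⊤ → ∀ t : S, orderOf t = 2 →
    2 * (2 ^ (2 * m + 1)) ^ 2 * Nat.card H ≤ Nat.card S ∨
    (Nat.card H ≤ (2 ^ (2 * m + 1)) ^ 2 * (2 ^ (2 * m + 1) - 1) ∧
      Nat.card {s : S // s⁻¹ * t * s ∈ H} ≤ (2 ^ (2 * m + 1)) ^ 2 * (2 ^ (2 * m + 1) - 1))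
  centInv : ∀ t : S, orderOf t = 2 → Nat.card {s : S // t * s = s * t} ≤ (2 ^ (2 * m + 1)) ^ 2
  centOdd : ∀ (p : ℕ) (x : S), p.Prime → p ≠ 2 → orderOf x = p →
    Nat.card {s : S // x * s = s * x} ≤ 2 ^ (2 * m + 1) + 2 ^ (m + 1) + 1
  noComm : ∀ (p : ℕ) (x t : S), p.Prime → p ≠ 2 → orderOf x = p → orderOf t = 2 → t * x = x * t → False
  five : ∀ p : ℕ, p.Prime → p ≠ 2 → p ∣ Nat.card S → 5 ≤ p

theorem SzI.congr {m : ℕ} {S S' : Type*} [Group S] [Group S'] (e : S ≃* S') (h : SzI m S) : SzI m S' := by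
  have hc : Nat.card S' = Nat.card S := Nat.card_congr e.symm.toEquiv
  have hH : ∀ H : Subgroup S', H ≠ ⊤ → H.comap e.toMonoidHom ≠ ⊤ := by
    intro H hH h1
    apply hH
    rw [eq_top_iff]
    intro s _
    have h2 : e.symm s ∈ H.comap e.toMonoidHom := by rw [h1]; trivial
    simpa using h2
  have hcH : ∀ H : Subgroup S', Nat.card ↥(H.comap e.toMonoidHom) = Nat.card H := fun H =>
    Nat.card_congr (Equiv.subtypeEquiv e.toEquiv fun a => Iff.rfl)
  have hord : ∀ t : S', orderOf (e.symm t) = orderOf t := fun t => orderOf_injective e.symm.toMonoidHom e.symm.injective t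
  have hcent : ∀ x : S', Nat.card {s : S' // x * s = s * x} = Nat.card {s : S // e.symm x * s = s * e.symm x} := by
    intro x
    refine Nat.card_congr (Equiv.subtypeEquiv e.symm.toEquiv fun a => ?_)
    change x * a = a * x ↔ e.symm x * e.symm a = e.symm a * e.symm x
    rw [← map_mul, ← map_mul, e.symm.injective.eq_iff]
  refine ⟨hc.trans h.card, ?_, ?_, ?_, ?_, ?_, ?_⟩
  · intro H hH'
    rw [hc, ← hcH]
    exact h.sub _ (hH H hH')
  · intro H hH' t ht
    rw [hc, ← hcH]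
    have h1 : Nat.card {s : S' // s⁻¹ * t * s ∈ H} =
        Nat.card {s : S // s⁻¹ * e.symm t * s ∈ H.comap e.toMonoidHom} := by
      refine Nat.card_congr (Equiv.subtypeEquiv e.symm.toEquiv fun a => ?_)
      change a⁻¹ * t * a ∈ H ↔ e ((e.symm a)⁻¹ * e.symm t * e.symm a) ∈ H
      simp
    rw [h1]
    exact h.inv _ (hH H hH') _ ((hord t).trans ht)
  · intro t ht
    rw [hcent]
    exact h.centInv _ ((hord t).trans ht)
  · intro p x hp hp2 hx
    rw [hcent]
    exact h.centOdd p _ hp hp2 ((hord x).trans hx)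
  · intro p x t hp hp2 hx ht htx
    apply h.noComm p (e.symm x) (e.symm t) hp hp2 ((hord x).trans hx) ((hord t).trans ht)
    rw [← map_mul, ← map_mul, htx]
  · intro p hp hp2 hd
    exact h.five p hp hp2 (hc ▸ hd)

section General

variable {S : Type*} [Group S] [Finite S] {p : ℕ} [hp : Fact p.Prime]

/-- elements of `p`-power order of the normaliser of a Sylow subgroup -/
theorem mem_sylow_of_normalizer (R : Sylow p S) {x : S} {k : ℕ} (hx : x ^ p ^ k = 1)
    (hxR : x ∈ normalizer ((R : Subgroup S) : Set S)) : x ∈ (R : Subgroup S) := by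
  have h1 : IsPGroup p (zpowers x) := by
    obtain ⟨j, -, hj⟩ := (Nat.dvd_prime_pow hp.out).1 (orderOf_dvd_of_pow_eq_one hx)
    exact IsPGroup.of_card (n := j) (by rw [Nat.card_zpowers, hj])
  have h2 : zpowers x ⊓ normalizer ((R : Subgroup S) : Set S) = zpowers x ⊓ (R : Subgroup S) :=
    IsPGroup.inf_normalizer_sylow h1 R
  have h3 : x ∈ zpowers x ⊓ normalizer ((R : Subgroup S) : Set S) := ⟨mem_zpowers x, hxR⟩
  rw [h2] at h3
  exact h3.2

/-- the elements moving a nontrivial `p`-element into the normaliser of a Sylow subgroup, TI case -/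
theorem card_move_borel (hTI : ∀ P Q : Sylow p S, P ≠ Q → (P : Subgroup S) ⊓ Q = ⊥) (R : Sylow p S) {t : S}
    {k : ℕ} (ht : t ^ p ^ k = 1) (ht1 : t ≠ 1) {H : Subgroup S}
    (hH : H ≤ normalizer ((R : Subgroup S) : Set S)) :
    Nat.card {s : S // s⁻¹ * t * s ∈ H} ≤ Nat.card (normalizer ((R : Subgroup S) : Set S)) := by
  classical
  rcases isEmpty_or_nonempty {s : S // s⁻¹ * t * s ∈ H} with h0 | ⟨⟨s₀, hs₀⟩⟩
  · rw [Nat.card_of_isEmpty]; exact Nat.zero_le _
  have key : ∀ s : S, s⁻¹ * t * s ∈ H → t ∈ ((s • R : Sylow p S) : Subgroup S) := by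
    intro s hs
    have h1 : (s⁻¹ * t * s) ^ p ^ k = 1 := by
      have : (s⁻¹ * t * s) ^ p ^ k = s⁻¹ * t ^ p ^ k * s := by
        have := conj_pow (i := p ^ k) (a := s⁻¹) (b := t)
        rwa [inv_inv] at this
      rw [this, ht]; group
    have h2 := mem_sylow_of_normalizer R h1 (hH hs)
    rw [Sylow.smul_def]
    refine ⟨s⁻¹ * t * s, h2, ?_⟩
    change s * (s⁻¹ * t * s) * s⁻¹ = t
    group
  have hmem : ∀ s : S, s⁻¹ * t * s ∈ H → s₀⁻¹ * s ∈ normalizer ((R : Subgroup S) : Set S) := by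
    intro s hs
    have h1 : (s • R : Sylow p S) = s₀ • R := by
      by_contra hne
      have h2 := hTI _ _ hne
      have h3 : t ∈ ((s • R : Sylow p S) : Subgroup S) ⊓ ((s₀ • R : Sylow p S) : Subgroup S) :=
        ⟨key s hs, key s₀ hs₀⟩
      rw [h2, mem_bot] at h3
      exact ht1 h3
    have h2 : (s₀⁻¹ * s) • R = R := by rw [mul_smul, h1, inv_smul_smul]
    exact Sylow.smul_eq_iff_mem_normalizer.1 h2
  let f : {s : S // s⁻¹ * t * s ∈ H} → normalizer ((R : Subgroup S) : Set S) := fun s => ⟨s₀⁻¹ * s, hmem s s.2⟩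
  refine Nat.card_le_card_of_injective f ?_
  intro a b hab
  have h1 : s₀⁻¹ * (a : S) = s₀⁻¹ * b := congrArg Subtype.val hab
  exact Subtype.ext (mul_left_cancel h1)

end General

section Sz

variable {F : Type*} [Field F] [Fintype F] {m : ℕ}

open Cfsg.Agent.H101.SzGeo Cfsg.Agent.H101.SzSub Cfsg.Agent.H101.SzAbs
open Cfsg.Agent.LieExceptional Cfsg.Agent.LieExceptional.SuzukiBasic
open Cfsg.Agent.LieExceptional.SuzukiSylow Cfsg.Agent.LieExceptional.SuzukiCN

/-- the stabiliser of two points -/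
theorem card_two_stab (hm : 1 ≤ m) (hF : Fintype.card F = 2 ^ (2 * m + 1)) [IsSimpleGroup (Cfsg.Sz F m)]
    {a b : Cfsg.suzukiOvoid F m} (hab : a ≠ b) :
    Nat.card ↥(stabilizer (Cfsg.Sz F m) a ⊓ stabilizer (Cfsg.Sz F m) b) ≤ 2 ^ (2 * m + 1) - 1 := by
  classical
  have hf2 : Fact (Nat.Prime 2) := ⟨Nat.prime_two⟩
  obtain ⟨hQ, hQ1, hcount, hord⟩ := sz_rank hm hF
  obtain ⟨R, hR, hRn⟩ := exists_sylow hm hF a
  have hdis : Disjoint (stabilizer (Cfsg.Sz F m) a ⊓ stabilizer (Cfsg.Sz F m) b) (R : Subgroup (Cfsg.Sz F m)) := by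
    rw [disjoint_iff, eq_bot_iff]
    rintro x ⟨⟨-, hx⟩, hxR⟩
    rw [mem_bot]
    by_contra hx1
    have hx' : x ∈ P hF a := by rw [← hR]; exact hxR
    exact hab ((geo hm hF).free a b x hx' hx hx1).symm
  have hinj := mul_injective_of_disjoint hdis
  have hmem : ∀ g : ↥(stabilizer (Cfsg.Sz F m) a ⊓ stabilizer (Cfsg.Sz F m) b) × ↥(R : Subgroup (Cfsg.Sz F m)),
      (g.1 : Cfsg.Sz F m) * g.2 ∈ normalizer ((R : Subgroup (Cfsg.Sz F m)) : Set (Cfsg.Sz F m)) := fun g =>
    mul_mem (hRn g.1.2.1) (le_normalizer g.2.2)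
  let f : ↥(stabilizer (Cfsg.Sz F m) a ⊓ stabilizer (Cfsg.Sz F m) b) × ↥(R : Subgroup (Cfsg.Sz F m)) →
      normalizer ((R : Subgroup (Cfsg.Sz F m)) : Set (Cfsg.Sz F m)) := fun g => ⟨_, hmem g⟩
  have hf : Function.Injective f := by
    intro g g' h
    have h1 : (g.1 : Cfsg.Sz F m) * g.2 = (g'.1 : Cfsg.Sz F m) * g'.2 := congrArg Subtype.val h
    exact hinj h1
  have h1 := Nat.card_le_card_of_injective f hf
  rw [Nat.card_prod, hQ, card_norm_sylow hcount hord R, mul_comm] at h1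
  exact Nat.le_of_mul_le_mul_left h1 (by positivity)

/-- the normaliser of an element of prime order dividing `q - 1` -/
theorem card_norm_split (hm : 1 ≤ m) (hF : Fintype.card F = 2 ^ (2 * m + 1)) [IsSimpleGroup (Cfsg.Sz F m)]
    {l : ℕ} (hl : l.Prime) (hl1 : l ∣ 2 ^ (2 * m + 1) - 1) {y : Cfsg.Sz F m} (hy : orderOf y = l) :
    Nat.card (normalizer ((zpowers y : Subgroup (Cfsg.Sz F m)) : Set (Cfsg.Sz F m))) ≤
      2 * (2 ^ (2 * m + 1) - 1) := by
  classical
  have hfin := finite_ovoid F m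
  have hfix := card_fix_ovoid hm hF hl hl1 hy
  obtain ⟨M, hM⟩ : ∃ M, M = normalizer ((zpowers y : Subgroup (Cfsg.Sz F m)) : Set (Cfsg.Sz F m)) := ⟨_, rfl⟩
  rw [← hM]
  -- `M` permutes the fixed points of `y`
  have hperm : ∀ x ∈ M, ∀ a : Cfsg.suzukiOvoid F m, y • a = a → y • x • a = x • a := by
    intro x hx a ha
    rw [hM] at hx
    have h1 : x⁻¹ * y * x ∈ zpowers y := by
      have := (mem_normalizer_iff.1 (inv_mem hx) y).1 (mem_zpowers y)
      rwa [inv_inv] at this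
    have h2 : (x⁻¹ * y * x) • a = a := by
      have h3 : zpowers y ≤ stabilizer (Cfsg.Sz F m) a := by
        rw [zpowers_le]; exact ha
      exact h3 h1
    have h4 : x • ((x⁻¹ * y * x) • a) = x • a := by rw [h2]
    rwa [smul_smul, show x * (x⁻¹ * y * x) = y * x by group, mul_smul] at h4
  rw [Nat.card_coe_set_eq, Set.ncard_eq_two] at hfix
  obtain ⟨a, b, hab, hfab⟩ := hfix
  have hmem : ∀ c : Cfsg.suzukiOvoid F m, y • c = c ↔ c = a ∨ c = b := by
    intro c
    have : c ∈ fixedBy (Cfsg.suzukiOvoid F m) y ↔ c ∈ ({a, b} : Set _) := by rw [hfab]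
    simpa using this
  -- the stabiliser of `a` in `M`
  have h1 : (stabilizer M a).index ≤ 2 := by
    rw [index_stabilizer]
    have h2 : (orbit M a) ⊆ {a, b} := by
      rintro _ ⟨x, rfl⟩
      exact (hmem _).1 (hperm x x.2 a ((hmem a).2 (Or.inl rfl)))
    calc (orbit M a).ncard ≤ ({a, b} : Set (Cfsg.suzukiOvoid F m)).ncard := Set.ncard_le_ncard h2 (Set.toFinite _)
      _ = 2 := Set.ncard_pair hab
  have h2 : Nat.card (stabilizer M a) ≤ 2 ^ (2 * m + 1) - 1 := by
    refine le_trans ?_ (card_two_stab hm hF hab)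
    have h3 : ∀ x : M, x ∈ stabilizer M a →
        (x : Cfsg.Sz F m) ∈ stabilizer (Cfsg.Sz F m) a ⊓ stabilizer (Cfsg.Sz F m) b := by
      intro x hx
      have hxa : (x : Cfsg.Sz F m) • a = a := hx
      refine ⟨hxa, ?_⟩
      rcases (hmem _).1 (hperm x x.2 b ((hmem b).2 (Or.inr rfl))) with h4 | h4
      · exfalso
        apply hab
        have h5 : (x : Cfsg.Sz F m) • a = (x : Cfsg.Sz F m) • b := by rw [hxa, h4]
        exact smul_left_cancel _ h5
      · exact h4
    let f : stabilizer M a → ↥(stabilizer (Cfsg.Sz F m) a ⊓ stabilizer (Cfsg.Sz F m) b) := fun x => ⟨_, h3 x x.2⟩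
    refine Nat.card_le_card_of_injective f ?_
    intro x x' h
    have h4 := congrArg Subtype.val h
    exact Subtype.ext (Subtype.ext h4)
  rw [← (stabilizer M a).card_mul_index, mul_comm]
  exact Nat.mul_le_mul h1 h2

/-- the centraliser of an element of odd prime order -/
theorem card_cent_odd (hm : 1 ≤ m) (hF : Fintype.card F = 2 ^ (2 * m + 1)) [IsSimpleGroup (Cfsg.Sz F m)]
    {l : ℕ} (hl : l.Prime) (hl2 : l ≠ 2) {x : Cfsg.Sz F m} (hx : orderOf x = l) :
    Nat.card {s : Cfsg.Sz F m // x * s = s * x} ≤ 2 ^ (2 * m + 1) + 2 ^ (m + 1) + 1 := by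
  classical
  have hf2 : Fact (Nat.Prime 2) := ⟨Nat.prime_two⟩
  have hlf : Fact l.Prime := ⟨hl⟩
  have hfin := finite_ovoid F m
  obtain ⟨hQ, hQ1, hcount, hord⟩ := sz_rank hm hF
  have hx1 : x ≠ 1 := by
    rintro rfl
    rw [orderOf_one] at hx
    exact hl.one_lt.ne hx
  by_cases hl1 : l ∣ 2 ^ (2 * m + 1) - 1
  · -- the split torus
    have hfix := card_fix_ovoid hm hF hl hl1 hx
    rw [Nat.card_coe_set_eq, Set.ncard_eq_two] at hfix
    obtain ⟨a, b, hab, hfab⟩ := hfix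
    have hmem : ∀ c : Cfsg.suzukiOvoid F m, x • c = c ↔ c = a ∨ c = b := by
      intro c
      have : c ∈ fixedBy (Cfsg.suzukiOvoid F m) x ↔ c ∈ ({a, b} : Set _) := by rw [hfab]
      simpa using this
    have hperm : ∀ s : Cfsg.Sz F m, x * s = s * x → ∀ c : Cfsg.suzukiOvoid F m, x • c = c → x • s • c = s • c := by
      intro s hs c hc
      rw [← mul_smul, hs, mul_smul, hc]
    -- orders of centralising elements are odd
    have hodd : ∀ s : Cfsg.Sz F m, x * s = s * x → ¬ 2 ∣ orderOf s := by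
      intro s hs h2
      obtain ⟨t, ht⟩ : ∃ t, t = s ^ (orderOf s / 2) := ⟨_, rfl⟩
      have hto : orderOf t = 2 := by
        rw [ht]
        have hpos := orderOf_pos s
        rw [orderOf_pow' s (Nat.div_pos (Nat.le_of_dvd hpos h2) (by norm_num)).ne']
        rw [Nat.gcd_eq_right (Nat.div_dvd_of_dvd h2), Nat.div_div_self h2 hpos.ne']
      have hxt : x * t = t * x := by
        rw [ht]
        exact (Commute.pow_right hs _).eq
      have h3 : IsPGroup 2 (zpowers t) := IsPGroup.of_card (n := 1) (by rw [Nat.card_zpowers, hto, pow_one])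
      obtain ⟨R, hR⟩ := h3.exists_le_sylow
      have h4 := sz_fpf hm hF hl hl2 hx R (hR (mem_zpowers t)) hxt
      rw [h4, orderOf_one] at hto
      norm_num at hto
    have hstab : ∀ s : Cfsg.Sz F m, x * s = s * x →
        s ∈ stabilizer (Cfsg.Sz F m) a ⊓ stabilizer (Cfsg.Sz F m) b := by
      intro s hs
      have ha := (hmem _).1 (hperm s hs a ((hmem a).2 (Or.inl rfl)))
      have hb := (hmem _).1 (hperm s hs b ((hmem b).2 (Or.inr rfl)))
      have hne : s • a ≠ s • b := fun h => hab (smul_left_cancel _ h)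
      have haa : s • a = a := by
        rcases ha with ha | ha
        · exact ha
        exfalso
        have hba : s • b = a := by
          rcases hb with hb | hb
          · exact hb
          · exact absurd (ha.trans hb.symm) hne
        have h3 : ∀ j : ℕ, (s ^ 2) ^ j • a = a := by
          intro j
          induction j with
          | zero => simp
          | succ j ih => rw [pow_succ', mul_smul, ih, pow_two, mul_smul, ha, hba]
        have h4 := hodd s hs
        have h5 : s ^ orderOf s = s * (s ^ 2) ^ (orderOf s / 2) := by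
          rw [← pow_mul, ← pow_succ']
          congr 1
          omega
        have h6 : s ^ orderOf s • a = b := by rw [h5, mul_smul, h3, ha]
        rw [pow_orderOf_eq_one, one_smul] at h6
        exact hab h6
      refine ⟨haa, ?_⟩
      rcases hb with hb | hb
      · exact absurd (haa.trans hb.symm) hne
      · exact hb
    let f : {s : Cfsg.Sz F m // x * s = s * x} → ↥(stabilizer (Cfsg.Sz F m) a ⊓ stabilizer (Cfsg.Sz F m) b) :=
      fun s => ⟨_, hstab s s.2⟩
    have h1 := Nat.card_le_card_of_injective f (by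
      intro s s' h
      have h4 := congrArg Subtype.val h
      exact Subtype.ext h4)
    refine h1.trans ((card_two_stab hm hF hab).trans ((Nat.sub_le _ _).trans ?_))
    rw [add_assoc]
    exact Nat.le_add_right _ _
  · -- the other tori
    obtain ⟨q, hq⟩ : ∃ q, q = 2 ^ (2 * m + 1) := ⟨_, rfl⟩
    obtain ⟨s, hs⟩ : ∃ s, s = 2 ^ (m + 1) := ⟨_, rfl⟩
    have hs2 : 2 * s ≤ q := by
      rw [hs, hq, ← pow_succ']
      exact Nat.pow_le_pow_right (by norm_num) (by omega)
    have hss : s * s = 2 * q := by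
      rw [hs, hq, ← pow_add, ← pow_succ']
      congr 1
      omega
    have hlT : l ∣ Nat.card (Cfsg.Sz F m) := hx ▸ orderOf_dvd_natCard x
    have hlq1 : l ∣ q ^ 2 + 1 := by
      rw [hord, ← hq] at hlT
      rcases (hl.dvd_mul).1 hlT with h1 | h1
      · exfalso
        have h2 := hl.dvd_of_dvd_pow h1
        rw [hq] at h2
        exact hl2 ((Nat.prime_dvd_prime_iff_eq hl Nat.prime_two).1 (hl.dvd_of_dvd_pow h2))
      rcases (hl.dvd_mul).1 h1 with h2 | h2
      · exact h2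
      · rw [hq] at h2; exact absurd h2 hl1
    have hfac : q ^ 2 + 1 = (q + s + 1) * (q - s + 1) := by
      have h1 : s ≤ q := by omega
      zify [h1]
      have h2 : (s : ℤ) * s = 2 * q := by exact_mod_cast hss
      linear_combination h2
    obtain ⟨k, hk, hlk, hkle⟩ : ∃ k, k ∈ ({2 ^ (2 * m + 1) + 2 ^ (m + 1) + 1,
        2 ^ (2 * m + 1) - 2 ^ (m + 1) + 1} : Set ℕ) ∧ l ∣ k ∧ k ≤ 2 ^ (2 * m + 1) + 2 ^ (m + 1) + 1 := by
      rw [← hq, ← hs]
      rw [hfac] at hlq1
      rcases (hl.dvd_mul).1 hlq1 with h1 | h1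
      · exact ⟨q + s + 1, by simp, h1, le_rfl⟩
      · exact ⟨q - s + 1, by simp, h1, by omega⟩
    obtain ⟨U, -, hUk, hcent, -⟩ := Cfsg.Agent.S0333.result hm hF k hk
    obtain ⟨⟨u, huU⟩, hu⟩ := exists_prime_orderOf_dvd_card' (G := U) l (by rw [hUk]; exact hlk)
    rw [Subgroup.orderOf_mk] at hu
    have hc : ∀ P : Sylow l (Cfsg.Sz F m), IsCyclic P := fun P => Cfsg.Agent.S0331.result hm hF hl2 P
    obtain ⟨g, hg⟩ := exists_conj_zpowers hc hx hu
    have hgx : g * x * g⁻¹ ∈ U := by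
      have h1 : g * x * g⁻¹ ∈ (zpowers x).map (MulAut.conj g).toMonoidHom := ⟨x, mem_zpowers x, rfl⟩
      rw [hg] at h1
      exact (zpowers_le.2 huU) h1
    have hgx1 : g * x * g⁻¹ ≠ 1 := by
      intro h
      apply hx1
      have : x = g⁻¹ * (g * x * g⁻¹) * g := by group
      rw [this, h]; group
    have e2 := hcent _ hgx hgx1
    refine le_trans ?_ hkle
    rw [← hUk]
    have hmem : ∀ s : {s : Cfsg.Sz F m // x * s = s * x}, g * (s : Cfsg.Sz F m) * g⁻¹ ∈ U := by
      rintro ⟨s, hs⟩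
      rw [← e2, mem_centralizer_iff]
      rintro _ rfl
      change g * x * g⁻¹ * (g * s * g⁻¹) = g * s * g⁻¹ * (g * x * g⁻¹)
      calc g * x * g⁻¹ * (g * s * g⁻¹) = g * (x * s) * g⁻¹ := by group
        _ = g * (s * x) * g⁻¹ := by rw [hs]
        _ = g * s * g⁻¹ * (g * x * g⁻¹) := by group
    let f : {s : Cfsg.Sz F m // x * s = s * x} → U := fun s => ⟨_, hmem s⟩
    refine Nat.card_le_card_of_injective f ?_
    intro s s' h
    have h1 : g * (s : Cfsg.Sz F m) * g⁻¹ = g * (s' : Cfsg.Sz F m) * g⁻¹ := congrArg Subtype.val h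
    exact Subtype.ext (mul_left_cancel (mul_right_cancel h1))

/-- subgroups which are not contained in the normaliser of a Sylow 2-subgroup are small -/
theorem sub_cases (hm : 1 ≤ m) (hF : Fintype.card F = 2 ^ (2 * m + 1)) [IsSimpleGroup (Cfsg.Sz F m)]
    (H : Subgroup (Cfsg.Sz F m)) (hH : H ≠ ⊤) :
    (∃ R : Sylow 2 (Cfsg.Sz F m), H ≤ normalizer ((R : Subgroup (Cfsg.Sz F m)) : Set (Cfsg.Sz F m))) ∨
    2 * Nat.card H ≤ ((2 ^ (2 * m + 1)) ^ 2 + 1) * (2 ^ (2 * m + 1) - 1) := by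
  classical
  obtain ⟨q, hq⟩ : ∃ q, q = 2 ^ (2 * m + 1) := ⟨_, rfl⟩
  obtain ⟨s, hs⟩ : ∃ s, s = 2 ^ (m + 1) := ⟨_, rfl⟩
  have hq8 : 8 ≤ q := by
    rw [hq]
    calc 8 = 2 ^ 3 := by norm_num
      _ ≤ 2 ^ (2 * m + 1) := Nat.pow_le_pow_right (by norm_num) (by omega)
  have hs2 : 2 * s ≤ q := by
    rw [hs, hq, ← pow_succ']
    exact Nat.pow_le_pow_right (by norm_num) (by omega)
  have h2q : 2 ∣ q := hq ▸ dvd_pow_self 2 (by omega)
  have h2s : 2 ∣ s := hs ▸ dvd_pow_self 2 (by omega)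
  have hbig : 7 * (q ^ 2 + 1) ≤ (q ^ 2 + 1) * (q - 1) := by
    rw [mul_comm]
    exact Nat.mul_le_mul_left _ (by omega)
  have h8q : 8 * q ≤ q ^ 2 := by rw [pow_two]; exact Nat.mul_le_mul_right _ hq8
  rcases Cfsg.Agent.S2251.result hm hF H hH with h | ⟨U, hU, hUc, hUN⟩ | ⟨K, iK, iK', k', hk', hkm, hKc, hdvd, R, ⟨e⟩, hR⟩
  · exact Or.inl h
  · right
    rw [← hq]
    rcases hUc with hUc | hUc
    · obtain ⟨l, hl, hlq⟩ := Nat.exists_prime_and_dvd (n := q - 1) (by omega)
      have hlf : Fact l.Prime := ⟨hl⟩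
      obtain ⟨⟨y, hyU⟩, hy⟩ := exists_prime_orderOf_dvd_card' (G := U) l (by rw [hUc, ← hq]; exact hlq)
      rw [Subgroup.orderOf_mk] at hy
      have h1 := card_norm_split hm hF hl (by rw [← hq]; exact hlq) hy
      have h2 : Nat.card H ≤ 2 * (q - 1) := by
        calc Nat.card H ≤ Nat.card (normalizer (U : Set (Cfsg.Sz F m))) := Subgroup.card_le_of_le hUN
          _ ≤ _ := Subgroup.card_le_of_le (normalizer_le_of_cyclic hU hyU)
          _ ≤ 2 * (q - 1) := by rw [hq]; exact h1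
      omega
    · have hUle : Nat.card U ≤ q + s + 1 := by
        rcases hUc with h1 | h1
        · rw [h1, hq, hs]
        · have h1' : Nat.card U = 2 ^ (2 * m + 1) - 2 ^ (m + 1) + 1 := h1
          rw [h1', ← hq, ← hs]
          omega
      have hUodd : ¬ 2 ∣ Nat.card U ∧ 1 < Nat.card U := by
        rcases hUc with h1 | h1
        · rw [h1, ← hq, ← hs]
          omega
        · have h1' : Nat.card U = 2 ^ (2 * m + 1) - 2 ^ (m + 1) + 1 := h1
          rw [h1', ← hq, ← hs]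
          omega
      obtain ⟨l, hl, hlU⟩ := Nat.exists_prime_and_dvd (n := Nat.card U) (by omega)
      have hl2 : l ≠ 2 := by
        rintro rfl
        exact hUodd.1 hlU
      have hlf : Fact l.Prime := ⟨hl⟩
      obtain ⟨⟨y, hyU⟩, hy⟩ := exists_prime_orderOf_dvd_card' (G := U) l hlU
      rw [Subgroup.orderOf_mk] at hy
      have h1 := card_norm_torus hm hF hUc hl hl2 hlU hy
      have h2 : Nat.card H ≤ 4 * (q + s + 1) := by
        calc Nat.card H ≤ Nat.card (normalizer (U : Set (Cfsg.Sz F m))) := Subgroup.card_le_of_le hUN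
          _ ≤ _ := Subgroup.card_le_of_le (normalizer_le_of_cyclic hU hyU)
          _ ≤ 4 * Nat.card U := h1
          _ ≤ 4 * (q + s + 1) := Nat.mul_le_mul_left _ hUle
      omega
  · right
    have h1 : Nat.card H ≤ Nat.card (Cfsg.Sz K k') := by
      rw [← Nat.card_congr e.toEquiv]
      exact Subgroup.card_le_of_le hR
    rw [Cfsg.Agent.S0324.result hk' hKc] at h1
    obtain ⟨t, ht⟩ : ∃ t, t = 2 ^ (2 * k' + 1) := ⟨_, rfl⟩
    rw [← ht] at h1
    have ht3 : t ^ 3 ≤ q := by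
      rw [ht, hq, ← pow_mul]
      apply Nat.pow_le_pow_right (by norm_num)
      obtain ⟨c, hc'⟩ := hdvd
      have hc1 : c ≠ 0 := by rintro rfl; omega
      have hc2 : c ≠ 1 := by rintro rfl; omega
      have hc3 : c ≠ 2 := by rintro rfl; omega
      rw [hc']
      exact Nat.mul_le_mul_left _ (by omega)
    have ht1 : 1 ≤ t := by rw [ht]; exact Nat.one_le_two_pow
    have h2 : Nat.card H ≤ 2 * q ^ 2 := by
      refine h1.trans ?_
      have h3 : t ^ 2 + 1 ≤ 2 * t ^ 2 := by nlinarith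
      have h4 : t - 1 ≤ t := Nat.sub_le _ _
      calc t ^ 2 * (t ^ 2 + 1) * (t - 1) ≤ t ^ 2 * (2 * t ^ 2) * t :=
            Nat.mul_le_mul (Nat.mul_le_mul_left _ h3) h4
        _ = 2 * (t ^ 5 * 1) := by ring
        _ ≤ 2 * (t ^ 5 * t) := Nat.mul_le_mul_left _ (Nat.mul_le_mul_left _ ht1)
        _ = 2 * (t ^ 3 * t ^ 3) := by ring
        _ ≤ 2 * (q * q) := Nat.mul_le_mul_left _ (Nat.mul_le_mul ht3 ht3)
        _ = 2 * q ^ 2 := by ring
    rw [← hq]
    omega

theorem szI_model (hm : 1 ≤ m) (hF : Fintype.card F = 2 ^ (2 * m + 1)) [IsSimpleGroup (Cfsg.Sz F m)] :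
    SzI m (Cfsg.Sz F m) := by
  classical
  have hf2 : Fact (Nat.Prime 2) := ⟨Nat.prime_two⟩
  obtain ⟨hQ, hQ1, hcount, hord⟩ := sz_rank hm hF
  have hN : ∀ R : Sylow 2 (Cfsg.Sz F m), Nat.card (normalizer ((R : Subgroup (Cfsg.Sz F m)) : Set (Cfsg.Sz F m))) =
      (2 ^ (2 * m + 1)) ^ 2 * (2 ^ (2 * m + 1) - 1) := fun R => card_norm_sylow hcount hord R
  refine ⟨hord, ?_, ?_, ?_, ?_, ?_, ?_⟩
  · intro H hH
    rw [hord]
    rcases sub_cases hm hF H hH with ⟨R, hR⟩ | h
    · have h1 := Subgroup.card_le_of_le hR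
      rw [hN] at h1
      calc ((2 ^ (2 * m + 1)) ^ 2 + 1) * Nat.card H ≤
            ((2 ^ (2 * m + 1)) ^ 2 + 1) * ((2 ^ (2 * m + 1)) ^ 2 * (2 ^ (2 * m + 1) - 1)) := Nat.mul_le_mul_left _ h1
        _ = _ := by ring
    · have h0 : 1 ≤ (2 ^ (2 * m + 1)) ^ 2 := Nat.one_le_pow _ _ (by positivity)
      calc ((2 ^ (2 * m + 1)) ^ 2 + 1) * Nat.card H ≤ (2 ^ (2 * m + 1)) ^ 2 * (2 * Nat.card H) := by
            rw [← mul_assoc]
            exact Nat.mul_le_mul_right _ (by omega)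
        _ ≤ _ := Nat.mul_le_mul_left _ h
  · intro H hH t ht
    rw [hord]
    rcases sub_cases hm hF H hH with ⟨R, hR⟩ | h
    · right
      have h1 := Subgroup.card_le_of_le hR
      rw [hN] at h1
      refine ⟨h1, ?_⟩
      rw [← hN R]
      refine card_move_borel (sz_ti hm hF) R (k := 1) ?_ ?_ hR
      · rw [pow_one, ← ht, pow_orderOf_eq_one]
      · rintro rfl
        rw [orderOf_one] at ht
        norm_num at ht
    · left
      calc 2 * (2 ^ (2 * m + 1)) ^ 2 * Nat.card H = (2 ^ (2 * m + 1)) ^ 2 * (2 * Nat.card H) := by ring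
        _ ≤ _ := Nat.mul_le_mul_left _ h
  · intro t ht
    have h3 : IsPGroup 2 (zpowers t) := IsPGroup.of_card (n := 1) (by rw [Nat.card_zpowers, ht, pow_one])
    obtain ⟨R, hR⟩ := h3.exists_le_sylow
    obtain ⟨a, ha⟩ := exists_eq_P hm hF R
    have ht' : t ∈ P hF a := by rw [← ha]; exact hR (mem_zpowers t)
    have ht1 : t ≠ 1 := by
      rintro rfl
      rw [orderOf_one] at ht
      norm_num at ht
    rw [← hQ R, ha]
    have hmem : ∀ s : {s : Cfsg.Sz F m // t * s = s * t}, (s : Cfsg.Sz F m) ∈ P hF a := fun s =>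
      (geo hm hF).cent a t ht' ht1 s s.2.symm
    let f : {s : Cfsg.Sz F m // t * s = s * t} → P hF a := fun s => ⟨_, hmem s⟩
    refine Nat.card_le_card_of_injective f ?_
    intro s s' h
    have h4 := congrArg Subtype.val h
    exact Subtype.ext h4
  · intro p x hp hp2 hx
    exact card_cent_odd hm hF hp hp2 hx
  · intro p x t hp hp2 hx ht htx
    have h3 : IsPGroup 2 (zpowers t) := IsPGroup.of_card (n := 1) (by rw [Nat.card_zpowers, ht, pow_one])
    obtain ⟨R, hR⟩ := h3.exists_le_sylow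
    have h4 := sz_fpf hm hF hp hp2 hx R (hR (mem_zpowers t)) htx.symm
    rw [h4, orderOf_one] at ht
    norm_num at ht
  · intro p hp hp2 hd
    have h3 := three_not_dvd hm hF
    have h1 := hp.two_le
    have h4 : p ≠ 3 := by
      rintro rfl
      exact h3 hd
    have h5 : p ≠ 4 := by
      rintro rfl
      exact absurd hp (by norm_num)
    omega

end Sz

/-- **The data of the Suzuki groups.** -/
theorem szI {S : Type*} [Group S] [Finite S] [IsSimpleGroup S] {F : Type} [Field F] [Fintype F] {m : ℕ}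
    (hm : 1 ≤ m) (hF : Fintype.card F = 2 ^ (2 * m + 1)) (e : S ≃* ↥(Cfsg.Lie.Sz F (2 ^ (m + 1)))) : SzI m S := by
  obtain ⟨f⟩ := OddCyclic.ClaimC.SzIso.iso (F := F) hm hF
  let e' : S ≃* ↥(Cfsg.Sz F m) := e.trans f.symm
  have hf : Finite ↥(Cfsg.Sz F m) := Finite.of_equiv S e'.toEquiv
  have hs : IsSimpleGroup ↥(Cfsg.Sz F m) := by
    have : Nontrivial ↥(Cfsg.Sz F m) := e'.symm.toEquiv.nontrivial
    exact IsSimpleGroup.isSimpleGroup_of_surjective e'.toMonoidHom e'.surjective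
  exact SzI.congr e'.symm (szI_model hm hF)

end Cfsg.Agent.H452.RG
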