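import Cfsg.Agent.H452.RG.Count
import Cfsg.Agent.H452.RG.SzModel
import Cfsg.Agent.H452.RG.SzOuter

/-!
# The row of the Suzuki groups

* `Env.card_le` : `|N| ≤ Σ A_i`, `A_i ≤ c_i h`;
* `noCov_sz`, `rowX_sz`.
-/

set_option autoImplicit false

namespace Cfsg.Agent.H452.RG

open MulAction Cfsg.Agent.H106.RC Cfsg.Agent.H873.RG

/-- conjugation on a normal subgroup is not inner for elements outside -/
theorem env_outer {G Ω : Type*} [Group G] [MulAction G Ω] {N : Subgroup G} (hE : Env G Ω N) (hN : N.Normal)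
    {y : G} (hy : y ∉ N) {p : ℕ} (hyp : y ^ p = 1) :
    ∃ a : MulAut N, a ^ p = 1 ∧ (¬ ∃ g, a = MulAut.conj g) ∧
      Nat.card {n : N // y * n = n * y} = Nat.card {n : N // a n = n} := by
  refine ⟨MulAut.conjNormal y, ?_, ?_, ?_⟩
  · rw [← map_pow, hyp, map_one]
  · rintro ⟨g, hg⟩
    apply hy
    have h1 : (g : G)⁻¹ * y ∈ Subgroup.centralizer (N : Set G) := by
      rw [Subgroup.mem_centralizer_iff]
      intro n hn
      have h2 := congrArg (fun c : MulAut N => ((c ⟨n, hn⟩ : N) : G)) hg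
      simp only [MulAut.conjNormal_apply, MulAut.conj_apply] at h2
      have h3 : y * n * y⁻¹ = (g : G) * n * (g : G)⁻¹ := h2
      calc n * ((g : G)⁻¹ * y) = (g : G)⁻¹ * ((g : G) * n * (g : G)⁻¹) * y := by group
        _ = (g : G)⁻¹ * (y * n * y⁻¹) * y := by rw [h3]
        _ = (g : G)⁻¹ * y * n := by group
    rw [hE.cent, Subgroup.mem_bot] at h1
    have h2 : y = g := by
      calc y = (g : G) * ((g : G)⁻¹ * y) := by group
        _ = g := by rw [h1, mul_one]
    rw [h2]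
    exact g.2
  · refine Nat.card_congr (Equiv.subtypeEquivRight fun n => ?_)
    rw [Subtype.ext_iff, MulAut.conjNormal_apply]
    constructor
    · intro h
      rw [h]; group
    · intro h
      calc y * n = (y * n * y⁻¹) * y := by group
        _ = n * y := by rw [h]

theorem card_inf_eq {G : Type*} [Group G] (N K : Subgroup G) :
    Nat.card ↥(N ⊓ K) = Nat.card ↥(K.subgroupOf N) := by
  refine Nat.card_congr
    { toFun := fun x => ⟨⟨x.1, x.2.1⟩, x.2.2⟩
      invFun := fun x => ⟨x.1.1, x.1.2, x.2⟩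
      left_inv := fun x => rfl
      right_inv := fun x => rfl }

/-- the numbers attached to a point of a cover -/
theorem env_card {G Ω ι : Type*} [Group G] [Finite G] [MulAction G Ω] [Fintype ι] {N : Subgroup G}
    (hE : Env G Ω N) {x : ι → G} (h : Cov Ω x) (ω : Ω) :
    ∃ (H : Subgroup N) (A : ι → ℕ), H ≠ ⊤ ∧ Nat.card N ≤ ∑ i, A i ∧
      (∀ i, A i ≤ Nat.card {n : N // x i * n = n * x i} * Nat.card H) ∧
      ∀ (i) (hi : x i ∈ N), A i = Nat.card {n : N // n⁻¹ * (⟨x i, hi⟩ : N) * n ∈ H} := by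
  refine ⟨(stabilizer G ω).subgroupOf N, fun i => Nat.card {n : N // (n : G)⁻¹ * x i * n ∈ stabilizer G ω},
    ?_, card_le_sum N h ω, ?_, ?_⟩
  · intro h1
    apply hE.nofix ω
    intro n hn
    have h2 : (⟨n, hn⟩ : N) ∈ (stabilizer G ω).subgroupOf N := by rw [h1]; trivial
    exact h2
  · intro i
    rw [← card_inf_eq]
    exact card_move_le N _ hE.norm (x i)
  · intro i hi
    exact Nat.card_congr (Equiv.subtypeEquivRight fun n => Iff.rfl)

theorem geom_32 (A : ℕ) : 31 * ∑ a ∈ Finset.range (A + 1), 32 ^ a < 32 * 32 ^ A := by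
  induction A with
  | zero => simp
  | succ A ih =>
    rw [Finset.sum_range_succ, mul_add, pow_succ]
    omega

theorem num_W {m : ℕ} (hm : 1 ≤ m) :
    31 * ∑ a ∈ Finset.range ((2 * m + 1) / 3 + 1), 32 ^ a < 16 * (2 ^ (2 * m + 1)) ^ 2 := by
  obtain ⟨A, hA⟩ : ∃ A, A = (2 * m + 1) / 3 := ⟨_, rfl⟩
  rw [← hA]
  refine lt_of_lt_of_le (geom_32 A) ?_
  have h1 : 2 * 32 ^ A ≤ (2 ^ (2 * m + 1)) ^ 2 := by
    have h2 : (32 : ℕ) ^ A = 2 ^ (5 * A) := by rw [pow_mul]; norm_num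
    rw [h2, ← pow_succ', ← pow_mul]
    apply Nat.pow_le_pow_right (by norm_num)
    omega
  omega

theorem num_k {m : ℕ} (hm : 1 ≤ m) :
    31 * ((m + 1) * (2 ^ (2 * m + 1) + 2 ^ (m + 1) + 1)) ≤ 15 * (2 ^ (2 * m + 1)) ^ 2 := by
  induction m, hm using Nat.le_induction with
  | base => norm_num
  | succ m hm ih =>
    obtain ⟨a, ha⟩ : ∃ a, a = 2 ^ m := ⟨_, rfl⟩
    have e1 : 2 ^ (2 * m + 1) = 2 * a ^ 2 := by rw [ha, ← pow_mul, pow_succ, mul_comm, mul_comm m 2]
    have e2 : 2 ^ (m + 1) = 2 * a := by rw [ha, pow_succ, mul_comm]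
    have e3 : 2 ^ (2 * (m + 1) + 1) = 8 * a ^ 2 := by
      rw [show 2 * (m + 1) + 1 = (2 * m + 1) + 2 by ring, pow_add, e1]; ring
    have e4 : 2 ^ (m + 1 + 1) = 4 * a := by rw [pow_succ, e2]; ring
    rw [e1, e2] at ih
    rw [e3, e4]
    have h1 : (m + 1 + 1) * (8 * a ^ 2 + 4 * a + 1) ≤ (2 * (m + 1)) * (8 * (2 * a ^ 2 + 2 * a + 1)) := by
      apply Nat.mul_le_mul
      · omega
      · nlinarith
    have h2 : (8 * a ^ 2) ^ 2 = 16 * (2 * a ^ 2) ^ 2 := by ring
    rw [h2]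
    calc 31 * ((m + 1 + 1) * (8 * a ^ 2 + 4 * a + 1)) ≤ 31 * ((2 * (m + 1)) * (8 * (2 * a ^ 2 + 2 * a + 1))) :=
          Nat.mul_le_mul_left _ h1
      _ = 16 * (31 * ((m + 1) * (2 * a ^ 2 + 2 * a + 1))) := by ring
      _ ≤ 16 * (15 * (2 * a ^ 2) ^ 2) := Nat.mul_le_mul_left _ ih
      _ = 15 * (16 * (2 * a ^ 2) ^ 2) := by ring

theorem num_five {m k : ℕ} (h : 5 ^ k ≤ 2 ^ (2 * m + 1) + 2 ^ (m + 1) + 1) : k ≤ m + 1 := by
  by_contra hk
  push Not at hk
  have h1 : 4 ^ (m + 2) ≤ 5 ^ k :=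
    (Nat.pow_le_pow_left (by norm_num) _).trans (Nat.pow_le_pow_right (by norm_num) (by omega))
  have h2 : (4 : ℕ) ^ (m + 2) = 16 * (2 ^ m) ^ 2 := by
    rw [← pow_mul, mul_comm m 2, pow_mul, pow_add]; norm_num; ring
  have e1 : 2 ^ (2 * m + 1) = 2 * (2 ^ m) ^ 2 := by rw [← pow_mul, pow_succ, mul_comm, mul_comm m 2]
  have e2 : 2 ^ (m + 1) = 2 * 2 ^ m := by rw [pow_succ, mul_comm]
  rw [h2] at h1
  rw [e1, e2] at h
  have h3 : 1 ≤ 2 ^ m := Nat.one_le_two_pow
  nlinarith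

theorem noCov_sz {S : Type} [Group S] {m : ℕ} (hm : 1 ≤ m) (hI' : SzI m S) (hO' : SzO m S) : NoCov S := by
  classical
  intro G _ _ Ω _ _ _ N hE e ι _ x r hx hcov _
  have hι : Fintype ι := Fintype.ofFinite ι
  have hI : SzI m N := hI'.congr e.symm
  have hO : SzO m N := SzO.congr e.symm hO'
  obtain ⟨ω⟩ := (inferInstance : Nonempty Ω)
  obtain ⟨H, A, hH, hsum, hA, hAin⟩ := env_card hE hcov ω
  obtain ⟨q, hq⟩ : ∃ q, q = 2 ^ (2 * m + 1) := ⟨_, rfl⟩
  obtain ⟨L, hL⟩ : ∃ L, L = 2 ^ (2 * m + 1) + 2 ^ (m + 1) + 1 := ⟨_, rfl⟩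
  obtain ⟨W, hW⟩ : ∃ W, W = ∑ a ∈ Finset.range ((2 * m + 1) / 3 + 1), 32 ^ a := ⟨_, rfl⟩
  obtain ⟨h, hh⟩ : ∃ h, h = Nat.card H := ⟨_, rfl⟩
  have hh0 : 0 < h := by rw [hh]; exact Nat.card_pos
  have hWn := num_W hm
  rw [← hW, ← hq] at hWn
  -- outer members
  have hout : ∀ i, x i ∉ N → 3 ≤ r i ∧ r i ∣ 2 * m + 1 ∧
      Nat.card {n : N // x i * n = n * x i} ≤ 32 ^ ((2 * m + 1) / r i) := by
    intro i hi
    obtain ⟨a, ha1, ha2, ha3⟩ := env_outer hE hE.norm hi (hx.pow i)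
    rw [ha3]
    exact hO (r i) a (hx.prime i) ha1 ha2
  obtain ⟨O, hOdef⟩ : ∃ O : Finset ι, O = Finset.univ.filter fun i => x i ∉ N := ⟨_, rfl⟩
  have hmO : ∀ i, i ∈ O ↔ x i ∉ N := by intro i; rw [hOdef]; simp
  have hOsum : ∑ i ∈ O, A i ≤ W * h := by
    calc ∑ i ∈ O, A i ≤ ∑ i ∈ O, 32 ^ ((2 * m + 1) / r i) * h := by
          apply Finset.sum_le_sum
          intro i hi
          rw [hmO] at hi
          refine (hA i).trans ?_
          rw [← hh]
          exact Nat.mul_le_mul_right _ (hout i hi).2.2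
      _ = (∑ i ∈ O, 32 ^ ((2 * m + 1) / r i)) * h := by rw [Finset.sum_mul]
      _ ≤ W * h := by
          apply Nat.mul_le_mul_right
          rw [hW]
          exact outer_sum O hx.inj (by omega) (fun i hi => ⟨(hout i ((hmO i).1 hi)).1,
            (hout i ((hmO i).1 hi)).2.1⟩) 32
  obtain ⟨I, hIdef⟩ : ∃ I : Finset ι, I = Finset.univ.filter fun i => x i ∈ N := ⟨_, rfl⟩
  have hmI : ∀ i, i ∈ I ↔ x i ∈ N := by intro i; rw [hIdef]; simp
  have htot : ∑ i, A i = ∑ i ∈ I, A i + ∑ i ∈ O, A i := by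
    rw [hIdef, hOdef, Finset.sum_filter_add_sum_filter_not]
  -- orders
  have hord : ∀ (i) (hi : x i ∈ N), orderOf (⟨x i, hi⟩ : N) = r i := by
    intro i hi
    rw [Subgroup.orderOf_mk]
    have := Fact.mk (hx.prime i)
    exact orderOf_eq_prime (hx.pow i) (hx.ne i)
  have hcin : ∀ (i) (hi : x i ∈ N), Nat.card {n : N // x i * n = n * x i} =
      Nat.card {n : N // (⟨x i, hi⟩ : N) * n = n * ⟨x i, hi⟩} := by
    intro i hi
    refine Nat.card_congr (Equiv.subtypeEquivRight fun n => ?_)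
    rw [Subtype.ext_iff]
    rfl
  have hcard := hI.card
  rw [← hq] at hcard
  have hq1 : 1 < q := by rw [hq]; exact Nat.one_lt_two_pow (by omega)
  by_cases hinv : ∃ i, x i ∈ N ∧ r i = 2
  · -- an inner involution
    obtain ⟨i₀, hi₀, hr₀⟩ := hinv
    have hI1 : I = {i₀} := by
      ext i
      rw [hmI, Finset.mem_singleton]
      constructor
      · intro hi
        by_contra hne
        have hr2 : r i ≠ 2 := fun h2 => hne (hx.inj (h2.trans hr₀.symm))
        refine hI.noComm (r i) ⟨x i, hi⟩ ⟨x i₀, hi₀⟩ (hx.prime i) hr2 (hord i hi) ((hord i₀ hi₀).trans hr₀) ?_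
        exact Subtype.ext (hx.comm i₀ i)
      · rintro rfl; exact hi₀
    rw [hI1, Finset.sum_singleton] at htot
    have ht := (hord i₀ hi₀).trans hr₀
    rcases hI.inv H hH ⟨x i₀, hi₀⟩ ht with h1 | ⟨h1, h2⟩
    · have h3 := hI.centInv _ ht
      rw [← hq] at h3 h1
      rw [← hcin i₀ hi₀] at h3
      have h4 : A i₀ ≤ q ^ 2 * h := (hA i₀).trans (by rw [← hh]; exact Nat.mul_le_mul_right _ h3)
      rw [← hh] at h1
      have h5 : 2 * q ^ 2 * h ≤ (q ^ 2 + W) * h := by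
        calc 2 * q ^ 2 * h ≤ Nat.card N := h1
          _ ≤ _ := hsum
          _ = _ := htot
          _ ≤ q ^ 2 * h + W * h := Nat.add_le_add h4 hOsum
          _ = (q ^ 2 + W) * h := by ring
      have h6 := Nat.le_of_mul_le_mul_right h5 hh0
      omega
    · rw [← hq, ← hh] at h1
      rw [← hq, ← hAin i₀ hi₀] at h2
      obtain ⟨b, hb⟩ : ∃ b, b = q ^ 2 * (q - 1) := ⟨_, rfl⟩
      rw [← hb] at h1 h2
      have hb0 : 0 < b := by
        rw [hb]
        exact Nat.mul_pos (by positivity) (by omega)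
      have h5 : (q ^ 2 + 1) * b ≤ (1 + W) * b := by
        calc (q ^ 2 + 1) * b = Nat.card N := by rw [hcard, hb]; ring
          _ ≤ _ := hsum
          _ = _ := htot
          _ ≤ b + W * h := Nat.add_le_add h2 hOsum
          _ ≤ b + W * b := Nat.add_le_add_left (Nat.mul_le_mul_left _ h1) _
          _ = (1 + W) * b := by ring
      have h6 := Nat.le_of_mul_le_mul_right h5 hb0
      omega
  · -- only odd inner members
    push Not at hinv
    have hcI : ∀ (i) (hi : x i ∈ N), Nat.card {n : N // x i * n = n * x i} ≤ L := by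
      intro i hi
      rw [hcin i hi, hL]
      exact hI.centOdd (r i) _ (hx.prime i) (hinv i hi) (hord i hi)
    have hk : I.card ≤ m + 1 := by
      rcases I.eq_empty_or_nonempty with h0 | ⟨i₁, hi₁⟩
      · rw [h0]; simp
      have hi₁' := (hmI i₁).1 hi₁
      apply num_five
      rw [← hL]
      refine le_trans ?_ (hcI i₁ hi₁')
      -- the centraliser as a subgroup
      let C : Subgroup N := Subgroup.centralizer {(⟨x i₁, hi₁'⟩ : N)}
      have hC : Nat.card {n : N // x i₁ * n = n * x i₁} = Nat.card C := by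
        rw [hcin i₁ hi₁']
        refine Nat.card_congr (Equiv.subtypeEquivRight fun n => ?_)
        rw [Subgroup.mem_centralizer_singleton_iff]
        exact eq_comm
      rw [hC]
      apply card_pow_le I hx.inj (fun i _ => hx.prime i) Nat.card_pos.ne'
      · intro i hi
        have hi' := (hmI i).1 hi
        have h1 : (⟨x i, hi'⟩ : N) ∈ C := by
          rw [Subgroup.mem_centralizer_singleton_iff]
          exact Subtype.ext (hx.comm i i₁)
        have h2 := orderOf_dvd_natCard (⟨_, h1⟩ : C)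
        rwa [Subgroup.orderOf_mk, hord i hi'] at h2
      · intro i hi
        have hi' := (hmI i).1 hi
        apply hI.five (r i) (hx.prime i) (hinv i hi')
        have h2 := orderOf_dvd_natCard (⟨x i, hi'⟩ : N)
        rwa [hord i hi'] at h2
    have hIsum : ∑ i ∈ I, A i ≤ (m + 1) * L * h := by
      calc ∑ i ∈ I, A i ≤ ∑ i ∈ I, L * h := by
            apply Finset.sum_le_sum
            intro i hi
            refine (hA i).trans ?_
            rw [← hh]
            exact Nat.mul_le_mul_right _ (hcI i ((hmI i).1 hi))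
        _ = I.card * (L * h) := by rw [Finset.sum_const, smul_eq_mul]
        _ ≤ (m + 1) * (L * h) := Nat.mul_le_mul_right _ hk
        _ = (m + 1) * L * h := by ring
    have h1 := hI.sub H hH
    rw [← hq, ← hh] at h1
    have h5 : (q ^ 2 + 1) * h ≤ ((m + 1) * L + W) * h := by
      calc (q ^ 2 + 1) * h ≤ Nat.card N := h1
        _ ≤ _ := hsum
        _ = _ := htot
        _ ≤ (m + 1) * L * h + W * h := Nat.add_le_add hIsum hOsum
        _ = ((m + 1) * L + W) * h := by ring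
    have h6 := Nat.le_of_mul_le_mul_right h5 hh0
    have h7 := num_k hm
    rw [← hL, ← hq] at h7
    omega

/-- **The row of the Suzuki groups.** -/
theorem rowX_sz : RowX (fun S _ => Cfsg.Lie.IsoSuzuki S) := by
  intro S _ _ hS hsz _
  obtain ⟨F, iF, iF', m, hm, hF, ⟨e⟩⟩ := hsz
  have := hS.simple
  exact rc_of_noCov hS.simple hS.ncomm (noCov_sz hm (szI hm hF e) (szO hm hF e))

end Cfsg.Agent.H452.RG
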